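import Cfsg.Agent.Lib.F4Invol.Cert

/-!
The certificate passes the checker.
-/

set_option autoImplicit false
set_option maxRecDepth 20000

namespace CfsgLib.F4Invol

theorem cert_ok : check cert = true := by decide +kernel

end CfsgLib.F4Invol
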