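import Cfsg.Agent.Lib.F4Invol.Tables

/-!
Coordinates at roots that are not decomposable in a closed set of positive roots, and their behaviour under
conjugation by a root element, in characteristic two.
-/

set_option autoImplicit false
set_option linter.unusedSectionVars false

namespace CfsgLib.F4Invol

open Cfsg.Lie CfsgLib.Chev CfsgLib.ReeF4

variable {F : Type*} [Field F] [CharP F 2]

/-- closed under the surviving terms -/
structure PC (P : ℕ → Prop) : Prop where
  pos : ∀ r, P r → 24 ≤ r ∧ r < 48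
  closed : ∀ a b, P a → P b → b ≠ a → ∀ e ∈ oddTerms a b, P e.1

/-- `d` is not decomposable in `P` -/
structure Mn (P : ℕ → Prop) (d : ℕ) : Prop where
  mem : P d
  indec : ∀ a b, P a → P b → b ≠ a → ∀ e ∈ oddTerms a b, e.1 ≠ d

/-- `g` has coordinate `A` at `d` -/
def Co (P : ℕ → Prop) (d : ℕ) (A : F) (g : GL D.Idx F) : Prop :=
  X d A * g ∈ uGen D F (fun x => P x ∧ x ≠ d)

variable {P Q : ℕ → Prop} {d : ℕ}

theorem PC.not_neg (hP : PC P) {a b : ℕ} (ha : P a) (hb : P b) : b ≠ 47 - a := by
  have := hP.pos a ha; have := hP.pos b hb; omega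

theorem Mn.lt (hP : PC P) (hd : Mn P d) : d < 48 := (hP.pos d hd.mem).2

theorem PC.erase (hP : PC P) (hd : Mn P d) : PC (fun x => P x ∧ x ≠ d) :=
  ⟨fun r h => hP.pos r h.1, fun a b ha hb hba e he =>
    ⟨hP.closed a b ha.1 hb.1 hba e he, hd.indec a b ha.1 hb.1 hba e he⟩⟩

theorem X_mem (hP : PC P) {a : ℕ} (ha : P a) (t : F) : X a t ∈ uGen D F P :=
  elX_mem_uGen (show a < D.nroots from (hP.pos a ha).2) ha t

theorem conj_gen_mem (hP : PC P) {a s : ℕ} (ha : P a) (hs : P s) (t u : F) (R : ℕ → Prop) (hRs : R s)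
    (hR : s ≠ a → ∀ e ∈ oddTerms a s, R e.1) :
    X a t * X s u * (X a t)⁻¹ ∈ uGen D F R := by
  have ha' := (hP.pos a ha).2
  have hs' := (hP.pos s hs).2
  by_cases hsa : s = a
  · subst hsa
    rw [X_inv hs', X_add hs', X_add hs', show t + u + t = u by linear_combination CharTwo.add_self_eq_zero t]
    exact elX_mem_uGen (show s < D.nroots from hs') hRs u
  · rw [conj_X ha' hs' hsa (hP.not_neg ha hs)]
    refine mul_mem (elX_mem_uGen (show s < D.nroots from hs') hRs u) (Subgroup.list_prod_mem _ fun g hg => ?_)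
    obtain ⟨e, he, rfl⟩ := List.mem_map.1 hg
    exact elX_mem_uGen (show e.1 < D.nroots from (term_lt ha' hs' he).1) (hR hsa e he) _

theorem conj_mem_of_gens {a : ℕ} (t : F) {R : ℕ → Prop}
    (h : ∀ s, s < 48 → R s → ∀ u : F, X a t * X s u * (X a t)⁻¹ ∈ uGen D F R) {g : GL D.Idx F}
    (hg : g ∈ uGen D F R) : X a t * g * (X a t)⁻¹ ∈ uGen D F R := by
  induction hg using Subgroup.closure_induction with
  | mem x hx => obtain ⟨s, u, hs, hR, rfl⟩ := hx; exact h s hs hR u
  | one => simp
  | mul x y _ _ hx hy => rw [← conj_mul]; exact mul_mem hx hy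
  | inv x _ hx => rw [← conj_inv]; exact inv_mem hx

/-- the group of the other roots is normalised -/
theorem erase_normal (hP : PC P) (hd : Mn P d) {a : ℕ} (ha : P a) (t : F) {g : GL D.Idx F}
    (hg : g ∈ uGen D F (fun x => P x ∧ x ≠ d)) : X a t * g * (X a t)⁻¹ ∈ uGen D F (fun x => P x ∧ x ≠ d) :=
  conj_mem_of_gens t (fun s _ hs u => conj_gen_mem hP ha hs.1 t u _ hs
    fun hsa e he => ⟨hP.closed a s ha hs.1 hsa e he, hd.indec a s ha hs.1 hsa e he⟩) hg

theorem Co.mul (hP : PC P) (hd : Mn P d) {A B : F} {g h : GL D.Idx F} (hg : Co P d A g) (hh : Co P d B h) :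
    Co P d (A + B) (g * h) := by
  show X d (A + B) * (g * h) ∈ _
  have hd' := hd.lt hP
  have e : X d (A + B) * (g * h) = (X d B * (X d A * g) * (X d B)⁻¹) * (X d B * h) := by
    rw [add_comm A B, ← X_add hd']; group
  rw [e]
  exact mul_mem (erase_normal hP hd hd.mem B hg) hh

theorem Co.mono {P₁ : ℕ → Prop} (hsub : ∀ x, P x → P₁ x) {A : F} {g : GL D.Idx F} (h : Co P d A g) :
    Co P₁ d A g :=
  uGen_mono (fun x _ hx => ⟨hsub x hx.1, hx.2⟩) h

theorem co_zero_iff (hd' : d < 48) {g : GL D.Idx F} :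
    Co P d 0 g ↔ g ∈ uGen D F (fun x => P x ∧ x ≠ d) := by
  rw [Co, X_zero hd', one_mul]

theorem co_exists (hP : PC P) (hd : Mn P d) {g : GL D.Idx F} (hg : g ∈ uGen D F P) : ∃ A, Co P d A g := by
  have hd' := hd.lt hP
  induction hg using Subgroup.closure_induction with
  | mem x hx =>
      obtain ⟨s, u, hs, hPs, rfl⟩ := hx
      by_cases e : s = d
      · subst e; exact ⟨u, by rw [Co, X_add hd', CharTwo.add_self_eq_zero, X_zero hd']; exact one_mem _⟩
      · exact ⟨0, (co_zero_iff hd').2 (elX_mem_uGen hs ⟨hPs, e⟩ u)⟩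
  | one => exact ⟨0, (co_zero_iff hd').2 (one_mem _)⟩
  | mul x y _ _ hx hy =>
      obtain ⟨A, hA⟩ := hx; obtain ⟨B, hB⟩ := hy
      exact ⟨A + B, hA.mul hP hd hB⟩
  | inv x _ hx =>
      obtain ⟨A, hA⟩ := hx
      refine ⟨A, ?_⟩
      have h1 := erase_normal hP hd hd.mem A (inv_mem hA)
      show X d A * x⁻¹ ∈ _
      rw [mul_inv_rev] at h1
      simp only [X_inv hd', mul_assoc] at h1
      rw [X_add hd', CharTwo.add_self_eq_zero, X_zero hd', mul_one] at h1
      exact h1

/-- a normal form for a closed set -/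
theorem normal_form (hP : PC P) (k : ℕ) {g : GL D.Idx F} (hg : g ∈ uGen D F (fun r => P r ∧ k ≤ r)) :
    ∃ t, g = uProd D F (rootsFrom D P k) t := by
  suffices h : ∀ n k, D.nroots - k = n → ∀ g ∈ uGen D F (fun r => P r ∧ k ≤ r),
      ∃ t, g = uProd D F (rootsFrom D P k) t from h _ k rfl g hg
  intro n
  induction n with
  | zero =>
      intro k hk g hg
      refine ⟨fun _ => 0, ?_⟩
      have hb : uGen D F (fun r => P r ∧ k ≤ r) = ⊥ := by
        rw [eq_bot_iff, uGen_le_iff]; intro r hr ⟨_, h⟩; omega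
      rw [hb, Subgroup.mem_bot] at hg
      rw [hg, rootsFrom_ge (by omega)]; rfl
  | succ n ih =>
      intro k hk g hg
      by_cases hPk : P k
      · have hkn : k < D.nroots := by omega
        have hk48 : k < 48 := hkn
        have hnorm : ∀ a : F, ∀ v ∈ uGen D F (fun r => P r ∧ k + 1 ≤ r),
            X k a * v * (X k a)⁻¹ ∈ uGen D F (fun r => P r ∧ k + 1 ≤ r) := fun a v hv =>
          conj_mem_of_gens a (fun s hs hs' u => conj_gen_mem hP hPk hs'.1 a u _ hs' fun hsk e he =>
            ⟨hP.closed k s hPk hs'.1 hsk e he,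
              (combRoot_gt hc hkn hs (hP.pos k hPk).1 (hP.pos s hs'.1).1 (term_lt hk48 hs he).2).1⟩) hv
        have hform : ∃ a v, v ∈ uGen D F (fun r => P r ∧ k + 1 ≤ r) ∧ g = X k a * v := by
          induction hg using Subgroup.closure_induction with
          | mem x hx =>
              obtain ⟨r, a, hr, ⟨hPr, hkr⟩, rfl⟩ := hx
              by_cases e : r = k
              · subst e; exact ⟨a, 1, one_mem _, (mul_one _).symm⟩
              · exact ⟨0, X r a, elX_mem_uGen hr ⟨hPr, by omega⟩ a, by rw [X_zero hk48, one_mul]⟩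
          | one => exact ⟨0, 1, one_mem _, by rw [X_zero hk48, one_mul]⟩
          | mul x y _ _ hx hy =>
              obtain ⟨a, v, hv, rfl⟩ := hx; obtain ⟨b, w, hw, rfl⟩ := hy
              refine ⟨a + b, X k b * v * (X k b)⁻¹ * w, mul_mem (hnorm b v hv) hw, ?_⟩
              rw [← X_add hk48, X_inv hk48]
              simp only [mul_assoc]
              rw [← mul_assoc (X k b) (X k b), X_add hk48, CharTwo.add_self_eq_zero, X_zero hk48, one_mul]
          | inv x _ hx =>
              obtain ⟨a, v, hv, rfl⟩ := hx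
              refine ⟨a, X k a * v⁻¹ * (X k a)⁻¹, hnorm a _ (inv_mem hv), ?_⟩
              rw [mul_inv_rev, X_inv hk48]
              simp only [← mul_assoc]
              rw [X_add hk48, CharTwo.add_self_eq_zero, X_zero hk48, one_mul]
        obtain ⟨a, v, hv, rfl⟩ := hform
        obtain ⟨t, rfl⟩ := ih (k + 1) (by omega) v hv
        classical
        refine ⟨Function.update t k a, ?_⟩
        rw [rootsFrom_eq_cons hkn hPk, uProd, uProd, List.map_cons, List.prod_cons, Function.update_self]
        congr 2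
        exact List.map_congr_left fun r hr => by
          rw [Function.update_of_ne]; have := (mem_rootsFrom.1 hr).1; omega
      · rw [rootsFrom_eq_skip (by omega) hPk]
        refine ih (k + 1) (by omega) g (uGen_mono ?_ hg)
        rintro r hr ⟨h1, h2⟩
        refine ⟨h1, ?_⟩
        rcases Nat.lt_or_ge k r with h | h
        · omega
        · exact absurd ((show r = k by omega) ▸ h1) hPk

theorem uProd_drop (q : ℕ → Prop) [DecidablePred q] {L : List ℕ} (hL : ∀ r ∈ L, r < 48) {t : ℕ → F}
    (ht : ∀ r ∈ L, ¬ q r → t r = 0) : uProd D F L t = uProd D F (L.filter fun r => decide (q r)) t := by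
  induction L with
  | nil => rfl
  | cons a L ih =>
    have ih' := ih (fun r h => hL r (List.mem_cons_of_mem _ h)) fun r h => ht r (List.mem_cons_of_mem _ h)
    by_cases h : q a
    · rw [List.filter_cons_of_pos (by simpa using h)]
      simp only [uProd, List.map_cons, List.prod_cons] at ih' ⊢
      rw [ih']
    · rw [List.filter_cons_of_neg (by simpa using h), ← ih']
      simp only [uProd, List.map_cons, List.prod_cons]
      rw [ht a (by simp) h, elX_zero hc F (show a < D.nroots from hL a (by simp)), one_mul]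

theorem uProd_pos (hP : PC P) (t : ℕ → F) [DecidablePred P] :
    uProd D F (rootsFrom D P 0) t =
      uProd D F (rootsFrom D (fun r => 24 ≤ r) 0) (fun r => if P r then t r else 0) := by
  rw [uProd_drop P (fun r h => (mem_rootsFrom.1 h).2.1) (fun r _ h => if_neg h)]
  have e : (rootsFrom D (fun r => 24 ≤ r) 0).filter (fun r => decide (P r)) = rootsFrom D P 0 := by
    rw [rootsFrom, rootsFrom, List.filter_filter]
    refine List.filter_congr fun r _ => ?_
    by_cases h : P r <;> simp [h]
    exact (hP.pos r h).1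
  rw [e]
  refine congrArg List.prod (List.map_congr_left fun r hr => ?_)
  dsimp only
  rw [if_pos (mem_rootsFrom.1 hr).2.2]

theorem co_unique (hP : PC P) (hd : Mn P d) {A B : F} {g : GL D.Idx F} (hA : Co P d A g) (hB : Co P d B g) :
    A = B := by
  classical
  have hd' := hd.lt hP
  have hmem : X d (A + B) ∈ uGen D F (fun x => P x ∧ x ≠ d) := by
    have := mul_mem hA (inv_mem hB)
    rw [mul_inv_rev, X_inv hd', mul_assoc, ← mul_assoc g, mul_inv_cancel, one_mul, X_add hd'] at this
    exact this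
  obtain ⟨t, ht⟩ := normal_form (hP.erase hd) 0 (uGen_mono (fun x _ h => ⟨h, Nat.zero_le x⟩) hmem)
  rw [uProd_pos (hP.erase hd)] at ht
  have hq : PC (fun x => x = d) :=
    ⟨fun r h => h ▸ hP.pos d hd.mem, fun a b ha hb hba => absurd (hb.trans ha.symm) hba⟩
  have hone : ∀ u : ℕ → F, uProd D F (rootsFrom D (fun x => x = d) 0) u = X d (u d) := by
    intro u
    have hl : rootsFrom D (fun x => x = d) 0 = [d] := by
      refine List.perm_singleton.1 ((List.perm_ext_iff_of_nodup (List.Nodup.filter _ List.nodup_range')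
        (List.nodup_singleton d)).2 fun x => ?_)
      show x ∈ rootsFrom D (fun x => x = d) 0 ↔ _
      rw [mem_rootsFrom, List.mem_singleton]
      exact ⟨fun h => h.2.2, fun h => ⟨Nat.zero_le _, h ▸ hd', h⟩⟩
    rw [hl]; simp [uProd]
  have e2 := uProd_pos hq (fun r => if r = d then A + B else 0)
  rw [hone, if_pos rfl] at e2
  have e3 := uProd_inj hc (P := fun r => 24 ≤ r) (fun r _ h => h) 0 (e2.symm.trans ht) d
    (mem_rootsFrom.2 ⟨Nat.zero_le _, hd', (hP.pos d hd.mem).1⟩)
  simp only [if_true, ne_eq, not_true_eq_false, and_false, if_false] at e3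
  exact CharTwo.add_eq_zero.1 e3

theorem co_eq_zero (hP : PC P) (hd : Mn P d) {A : F} {g : GL D.Idx F}
    (hA : Co P d A g) (hg : g ∈ uGen D F (fun x => P x ∧ x ≠ d)) : A = 0 :=
  co_unique hP hd hA ((co_zero_iff (hd.lt hP)).2 hg)

end CfsgLib.F4Invol
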