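import Cfsg.Agent.Lib.F4Invol.Coord

/-!
The representatives, scaling by the torus, and moving by monomial elements.
-/

set_option autoImplicit false
set_option linter.unusedSectionVars false
set_option maxRecDepth 10000

namespace CfsgLib.F4Invol

open Cfsg.Lie CfsgLib.Chev CfsgLib.ReeF4

variable {F : Type*} [Field F] [CharP F 2]

/-- the product of root elements of parameter one -/
noncomputable def repElt (S : List ℕ) : GL D.Idx F := (S.map fun r => X r (1 : F)).prod

/-- conjugate to a representative -/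
def Concl (g : GL D.Idx F) : Prop :=
  ∃ S ∈ repList, ∃ h ∈ D.group F, h * g * h⁻¹ = repElt S

theorem Concl.of_conj {g h : GL D.Idx F} (hh : h ∈ D.group F) (hC : Concl (h * g * h⁻¹)) : Concl g := by
  obtain ⟨S, hS, k, hk, e⟩ := hC
  exact ⟨S, hS, k * h, mul_mem hk hh, by rw [← e]; group⟩

theorem pair_vals :
    (∑ k : Fin 4, cv tb 24 k.val * chevF4.cartan k.val 47) = 1 ∧
    (∑ k : Fin 4, cv tb 33 k.val * chevF4.cartan k.val 47) = 0 ∧
    (∑ k : Fin 4, cv tb 24 k.val * chevF4.cartan k.val 44) = 0 ∧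
    (∑ k : Fin 4, cv tb 33 k.val * chevF4.cartan k.val 44) = 1 ∧
    (∑ k : Fin 4, cv tb 28 k.val * chevF4.cartan k.val 39) = 1 ∧
    (∑ k : Fin 4, cv tb 30 k.val * chevF4.cartan k.val 39) = 0 ∧
    (∑ k : Fin 4, cv tb 28 k.val * chevF4.cartan k.val 45) = 0 ∧
    (∑ k : Fin 4, cv tb 30 k.val * chevF4.cartan k.val 45) = 1 := by decide +kernel

theorem elH_mem {r : ℕ} (hr : r < 48) (t : F) : elH D F r t ∈ D.group F :=
  mul_mem (elN_mem_group hc (show r < D.nroots from hr) t) (elN_mem_group hc (show r < D.nroots from hr) _)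

theorem scale_one {r a : ℕ} (hr : r < 48) (ha : a < 48) (u : Fˣ) (t : F) :
    elH D F r (u : F) * X a t * (elH D F r (u : F))⁻¹ =
      X a (((u ^ (∑ k : Fin 4, cv tb r k.val * chevF4.cartan k.val a) : Fˣ) : F) * t) := by
  rw [elH_eq_torus hc (show r < D.nroots from hr) u, torus_conj_elX hc _ (show a < D.nroots from ha),
    chi_corChar hc (show a < D.nroots from ha)]
  rfl

theorem conj_list {x a b : GL D.Idx F} : x * (a * b) * x⁻¹ = x * a * x⁻¹ * (x * b * x⁻¹) := conj_mul.symm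

theorem concl_single {a : ℕ} {r : ℕ} (ha : a < 48) (hr : r < 48) (hmem : [a] ∈ repList)
    (hp : (∑ k : Fin 4, cv tb r k.val * chevF4.cartan k.val a) = 1) {A : F} (hA : A ≠ 0) :
    Concl (X a A) := by
  refine ⟨[a], hmem, elH D F r ((Units.mk0 A hA)⁻¹ : Fˣ), elH_mem hr _, ?_⟩
  rw [scale_one hr ha, hp, zpow_one, Units.val_inv_eq_inv_val, Units.val_mk0, inv_mul_cancel₀ hA]
  simp [repElt]

theorem concl_pair {a b r₁ r₂ : ℕ} (ha : a < 48) (hb : b < 48) (h₁ : r₁ < 48) (h₂ : r₂ < 48)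
    (hmem : [a, b] ∈ repList)
    (p1 : (∑ k : Fin 4, cv tb r₁ k.val * chevF4.cartan k.val a) = 1)
    (p2 : (∑ k : Fin 4, cv tb r₂ k.val * chevF4.cartan k.val a) = 0)
    (p3 : (∑ k : Fin 4, cv tb r₁ k.val * chevF4.cartan k.val b) = 0)
    (p4 : (∑ k : Fin 4, cv tb r₂ k.val * chevF4.cartan k.val b) = 1)
    {A B : F} (hA : A ≠ 0) (hB : B ≠ 0) : Concl (X a A * X b B) := by
  refine ⟨[a, b], hmem, elH D F r₁ ((Units.mk0 A hA)⁻¹ : Fˣ) * elH D F r₂ ((Units.mk0 B hB)⁻¹ : Fˣ),
    mul_mem (elH_mem h₁ _) (elH_mem h₂ _), ?_⟩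
  rw [show ∀ x y z : GL D.Idx F, x * y * z * (x * y)⁻¹ = x * (y * z * y⁻¹) * x⁻¹ from fun x y z => by group,
    conj_list (x := elH D F r₂ ((Units.mk0 B hB)⁻¹ : Fˣ)), scale_one h₂ ha, scale_one h₂ hb, conj_list, scale_one h₁ ha, scale_one h₁ hb, p1, p2, p3, p4]
  simp [repElt, Units.val_inv_eq_inv_val, hA, hB]

/-- single roots and pairs sent to representatives -/
theorem concl_rep {S : List ℕ} (hS : S ∈ repList) {A B : F} (hA : A ≠ 0) (hB : B ≠ 0) :
    (∀ a, S = [a] → Concl (X a A)) ∧ (∀ a b, S = [a, b] → Concl (X a A * X b B)) := by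
  obtain ⟨q1, q2, q3, q4, q5, q6, q7, q8⟩ := pair_vals
  simp only [repList, List.mem_cons, List.not_mem_nil, or_false] at hS
  refine ⟨fun a e => ?_, fun a b e => ?_⟩ <;> subst e <;> simp only [List.cons.injEq, and_true, reduceCtorEq,
    and_false, or_false, false_or] at hS
  · rcases hS with rfl | rfl
    · exact concl_single (r := 24) (by norm_num) (by norm_num) (by simp [repList]) q1 hA
    · exact concl_single (r := 33) (by norm_num) (by norm_num) (by simp [repList]) q4 hA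
  · rcases hS with ⟨rfl, rfl⟩ | ⟨rfl, rfl⟩
    · exact concl_pair (by norm_num) (by norm_num) (r₁ := 24) (r₂ := 33) (by norm_num) (by norm_num)
        (by simp [repList]) q1 q2 q3 q4 hA hB
    · exact concl_pair (by norm_num) (by norm_num) (r₁ := 28) (r₂ := 30) (by norm_num) (by norm_num)
        (by simp [repList]) q5 q6 q7 q8 hA hB

end CfsgLib.F4Invol
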