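import Cfsg.Agent.Lib.F4Invol.Shift
import Cfsg.Agent.Lib.F4Invol.Scale
import Cfsg.Agent.Lib.ChevCent.MixedF4
import Cfsg.Agent.Lib.ChevAut.Sylow
import Cfsg.Agent.Lib.Chev.RadicalCentralizer
import Cfsg.Agent.Lib.Chev.Parabolic
import Mathlib.GroupTheory.Sylow

/-!
The four representatives are involutions and pairwise non-conjugate.
-/

set_option autoImplicit false
set_option linter.unusedSectionVars false
set_option maxRecDepth 10000

namespace CfsgLib.F4Invol

open Cfsg.Lie CfsgLib.Chev CfsgLib.ReeF4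

variable {F : Type*} [Field F] [Finite F] [CharP F 2]

/-- the mask of a representative -/
def repMask (S : List ℕ) : ℕ := S.foldl ins 0

theorem rep_masks : ∀ S ∈ repList, isPC (repMask S) = true ∧
    (∀ d ∈ S, isMin (repMask S) d = true) ∧ S.Nodup ∧ (∀ x ∈ posList, inM (repMask S) x = S.contains x) := by
  decide +kernel

theorem rep_comm : ∀ S ∈ repList, ∀ a ∈ S, ∀ b ∈ S, a ≠ b → oddTerms a b = [] := by decide +kernel

theorem central_tbl : ∀ S ∈ ([[47], [44], [47, 44]] : List (List ℕ)), ∀ a ∈ S, ∀ x : Fin 48, 24 ≤ x.val →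
    x.val ≠ a → oddTerms x.val a = [] := by decide +kernel

theorem rep_lt : ∀ S ∈ repList, ∀ a ∈ S, 24 ≤ a ∧ a < 48 := by decide +kernel

theorem repElt_mem {S : List ℕ} (hS : ∀ a ∈ S, a < 48) {Q : ℕ → Prop} (hQ : ∀ a ∈ S, Q a) :
    (repElt S : GL D.Idx F) ∈ uGen D F Q :=
  Subgroup.list_prod_mem _ fun g hg => by
    obtain ⟨a, ha, rfl⟩ := List.mem_map.1 hg
    exact elX_mem_uGen (show a < D.nroots from hS a ha) (hQ a ha) 1

theorem repElt_group {S : List ℕ} (hS : S ∈ repList) : (repElt S : GL D.Idx F) ∈ D.group F :=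
  Subgroup.list_prod_mem _ fun g hg => by
    obtain ⟨a, ha, rfl⟩ := List.mem_map.1 hg
    exact elX_mem_group hc (show a < D.nroots from (rep_lt S hS a ha).2) 1

theorem rep_set {S : List ℕ} (hS : S ∈ repList) :
    PC (St (repMask S)) ∧ (∀ d ∈ S, Mn (St (repMask S)) d) ∧ ∀ x, St (repMask S) x ↔ x ∈ S := by
  obtain ⟨h1, h2, -, h4⟩ := rep_masks S hS
  have hP := pc_of _ h1
  refine ⟨hP, fun d hd => mn_of hP (h2 d hd), fun x => ⟨fun hx => ?_, fun hx => ?_⟩⟩
  · have := h4 x (posList_mem.2 (hP.pos x hx))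
    rw [show inM _ x = true from hx] at this
    simpa using this.symm
  · show inM _ x = true
    rw [h4 x (posList_mem.2 (rep_lt S hS x hx))]
    simpa using hx

theorem co_rep {S : List ℕ} (hS : S ∈ repList) {d : ℕ} (hd : d ∈ S) :
    Co (St (repMask S)) d 1 (repElt S : GL D.Idx F) := by
  obtain ⟨hP, hmn, hmem⟩ := rep_set hS
  have key : ∀ l : List ℕ, (∀ a ∈ l, a ∈ S) → l.Nodup →
      Co (St (repMask S)) d (if d ∈ l then 1 else 0) (repElt l : GL D.Idx F) := by
    intro l
    induction l with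
    | nil =>
      intro _ _
      rw [if_neg (by simp)]
      exact (co_zero_iff ((hmn d hd).lt hP)).2 (one_mem _)
    | cons a l ih =>
      intro hl hn
      have h := ih (fun x hx => hl x (List.mem_cons_of_mem _ hx)) (List.nodup_cons.1 hn).2
      have := (co_X hP (hmn d hd) ((hmem a).2 (hl a (by simp))) (1 : F)).mul hP (hmn d hd) h
      rw [show repElt (a :: l) = X a (1 : F) * repElt l from List.prod_cons]
      convert this using 1
      by_cases e : a = d
      · subst e; simp [(List.nodup_cons.1 hn).1]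
      · simp [e, Ne.symm e]
  have := key S (fun _ h => h) (rep_masks S hS).2.2.1
  rwa [if_pos hd] at this

theorem not_mem_erase {S : List ℕ} (hS : S ∈ repList) {d : ℕ} (hd : d ∈ S) :
    (repElt S : GL D.Idx F) ∉ uGen D F (fun x => x ∈ S ∧ x ≠ d) := by
  intro h
  obtain ⟨hP, hmn, hmem⟩ := rep_set hS
  exact one_ne_zero (co_eq_zero hP (hmn d hd) (co_rep hS hd)
    (uGen_mono (fun x _ hx => ⟨(hmem x).2 hx.1, hx.2⟩) h))

theorem repElt_ne_one {S : List ℕ} (hS : S ∈ repList) : (repElt S : GL D.Idx F) ≠ 1 := by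
  intro h
  cases S with
  | nil => simp [repList] at hS
  | cons a l => exact not_mem_erase hS (d := a) (by simp) (h ▸ one_mem _)

theorem repElt_sq {S : List ℕ} (hS : S ∈ repList) : (repElt S : GL D.Idx F) * repElt S = 1 := by
  have hlt := rep_lt S hS
  have hcomm' := rep_comm S hS
  have sq : ∀ a, a < 48 → X a (1 : F) * X a 1 = 1 := fun a ha => by
    rw [X_add ha, CharTwo.add_self_eq_zero, X_zero ha]
  simp only [repList, List.mem_cons, List.not_mem_nil, or_false] at hS
  have pair : ∀ a b, S = [a, b] → a ≠ b → b ≠ 47 - a → (repElt S : GL D.Idx F) * repElt S = 1 := by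
    intro a b e hab hn
    subst e
    have h := conj_X (F := F) (hlt a (by simp)).2 (hlt b (by simp)).2 (Ne.symm hab) hn 1 1
    rw [hcomm' a (by simp) b (by simp) hab, List.map_nil, List.prod_nil, mul_one, X_inv (hlt a (by simp)).2] at h
    simp only [repElt, List.map_cons, List.map_nil, List.prod_cons, List.prod_nil, mul_one]
    calc X a (1 : F) * X b 1 * (X a 1 * X b 1) = X a (1 : F) * X b 1 * X a 1 * X b 1 := by group
      _ = 1 := by rw [h, sq b (hlt b (by simp)).2]
  rcases hS with rfl | rfl | rfl | rfl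
  · simp [repElt, sq]
  · simp [repElt, sq]
  · exact pair 47 44 rfl (by norm_num) (by norm_num)
  · exact pair 39 45 rfl (by norm_num) (by norm_num)

theorem central_commute {S : List ℕ} (hS : S ∈ ([[47], [44], [47, 44]] : List (List ℕ))) {g : GL D.Idx F}
    (hg : g ∈ CfsgLib.ChevAut.Up D F) : Commute g (repElt S) := by
  have hS' : S ∈ repList := by
    simp only [repList, List.mem_cons, List.not_mem_nil, or_false] at hS ⊢; tauto
  have hlt := rep_lt S hS'
  induction hg using Subgroup.closure_induction with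
  | mem x hx =>
      obtain ⟨r, t, hr, hp, rfl⟩ := hx
      have hr24 : 24 ≤ r := hp
      refine Commute.list_prod_right _ _ fun z hz => ?_
      obtain ⟨a, ha, rfl⟩ := List.mem_map.1 hz
      by_cases e : r = a
      · subst e
        show X r t * X r 1 = X r 1 * X r t
        rw [X_add hr, X_add hr, add_comm]
      · have h := conj_X (F := F) hr (hlt a ha).2 (Ne.symm e) (by have := (hlt a ha).1; omega) t 1
        rw [central_tbl S hS a ha ⟨r, hr⟩ hr24 e, List.map_nil, List.prod_nil, mul_one,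
          mul_inv_eq_iff_eq_mul] at h
        exact h
  | one => exact Commute.one_left _
  | mul x y _ _ hx hy => exact hx.mul_left hy
  | inv x _ hx => exact hx.inv_left

theorem diag_mem_iff {h g : GL D.Idx F} (hh : h ∈ D.diagonalSubgroup F) (Q : ℕ → Prop) :
    h * g * h⁻¹ ∈ uGen D F Q ↔ g ∈ uGen D F Q := by
  refine ⟨fun hm => ?_, fun hm => diag_conj_mem hc Q hh hm⟩
  have := diag_conj_mem' hc Q hh hm
  convert this using 1
  group

/-- Burnside: conjugate central involutions of U are the same representative -/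
theorem central_fusion {S T : List ℕ} (hS : S ∈ ([[47], [44], [47, 44]] : List (List ℕ)))
    (hT : T ∈ ([[47], [44], [47, 44]] : List (List ℕ))) {k : GL D.Idx F} (hk : k ∈ D.group F)
    (e : k * repElt S * k⁻¹ = (repElt T : GL D.Idx F)) : S = T := by
  classical
  have hS' : S ∈ repList := by
    simp only [repList, List.mem_cons, List.not_mem_nil, or_false] at hS ⊢; tauto
  have hT' : T ∈ repList := by
    simp only [repList, List.mem_cons, List.not_mem_nil, or_false] at hT ⊢; tauto
  haveI : Fact (Nat.Prime 2) := ⟨Nat.prime_two⟩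
  haveI : Finite (GL D.Idx F) := inferInstance
  obtain ⟨P, hP⟩ := CfsgLib.ChevAut.sylow_pos hc hcomm (F := F) 2
  have hcen : ∀ (R : List ℕ) (hR : R ∈ ([[47], [44], [47, 44]] : List (List ℕ)))
      (hm : (repElt R : GL D.Idx F) ∈ D.group F),
      (⟨repElt R, hm⟩ : ↥(D.group F)) ∈ Subgroup.centralizer (P : Set ↥(D.group F)) := by
    intro R hR hm
    rw [Subgroup.mem_centralizer_iff]
    intro x hx
    have : x ∈ (P : Subgroup ↥(D.group F)) := hx
    rw [hP, Subgroup.mem_subgroupOf] at this
    exact Subtype.ext (central_commute hR this).eq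
  let kk : ↥(D.group F) := ⟨k, hk⟩
  obtain ⟨n, hn, hne⟩ := P.conj_eq_normalizer_conj_of_mem_centralizer
    ⟨repElt S, repElt_group hS'⟩ kk⁻¹ (hcen S hS _) (by
      have he : kk⁻¹⁻¹ * ⟨repElt S, repElt_group hS'⟩ * kk⁻¹ = ⟨repElt T, repElt_group hT'⟩ :=
        Subtype.ext (by rw [inv_inv]; exact e)
      rw [he]; exact hcen T hT _)
  have hne' : ((n : GL D.Idx F))⁻¹ * repElt S * (n : GL D.Idx F) = repElt T := by
    have h := congrArg (Subgroup.subtype _) hne
    simp only [Subgroup.coe_subtype, Subgroup.coe_mul, Subgroup.coe_inv, kk] at h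
    rw [inv_inv, e] at h
    exact h.symm
  have hnB : (n : GL D.Idx F)⁻¹ ∈ D.borelSubgroup F := by
    refine inv_mem ((CfsgLib.ChevAut.mem_borel_iff_normalizes hc hcomm n.2).2 fun x hx => ?_)
    have hxP : (⟨x, CfsgLib.ChevAut.up_le_group hc hx⟩ : ↥(D.group F)) ∈ (P : Subgroup ↥(D.group F)) := by
      rw [hP]; exact hx
    have := (Subgroup.mem_normalizer_iff.1 hn _).1 hxP
    rw [hP, Subgroup.mem_subgroupOf] at this
    exact this
  obtain ⟨u, hu, h, hh, eb⟩ := (mem_borel hc).1 hnB
  have hdiag : h * repElt S * h⁻¹ = (repElt T : GL D.Idx F) := by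
    have hu' := central_commute (F := F) hT (inv_mem hu)
    have e2 : u * (h * repElt S * h⁻¹) * u⁻¹ = repElt T := by
      rw [← hne', show ((n : GL D.Idx F)) = (u * h)⁻¹ by rw [← eb, inv_inv], inv_inv]; group
    calc h * repElt S * h⁻¹ = u⁻¹ * (u * (h * repElt S * h⁻¹) * u⁻¹) * u := by group
      _ = u⁻¹ * repElt T * u := by rw [e2]
      _ = repElt T := by rw [hu'.eq, mul_assoc, inv_mul_cancel, mul_one]
  have hltS : ∀ a ∈ S, a < 48 := fun a ha => (rep_lt S hS' a ha).2
  have hltT : ∀ a ∈ T, a < 48 := fun a ha => (rep_lt T hT' a ha).2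
  have h1 : ∀ d ∈ S, d ∈ T := by
    intro d hd
    by_contra hdT
    have hmem : (repElt T : GL D.Idx F) ∈ uGen D F (fun x => (x ∈ S ∨ x ∈ T) ∧ x ≠ d) :=
      repElt_mem hltT fun a ha => ⟨Or.inr ha, fun e' => hdT (e' ▸ ha)⟩
    have hmS : (repElt S : GL D.Idx F) ∈ uGen D F (fun x => (x ∈ S ∨ x ∈ T) ∧ x ≠ d) := by
      rw [← diag_mem_iff hh, hdiag]; exact hmem
    have hall : ∀ x, x ∈ S ∨ x ∈ T → x ∈ ([47, 44] : List ℕ) := by
      intro x hx
      simp only [List.mem_cons, List.not_mem_nil, or_false] at hS hT ⊢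
      rcases hx with hx | hx <;> [rcases hS with rfl | rfl | rfl; rcases hT with rfl | rfl | rfl] <;>
        simp at hx <;> tauto
    have hW : ([47, 44] : List ℕ) ∈ repList := by simp [repList]
    obtain ⟨hPW, hmnW, hmemW⟩ := rep_set hW
    have hdW := hall d (Or.inl hd)
    have h0 : Co (St (repMask [47, 44])) d 0 (repElt S : GL D.Idx F) :=
      (co_zero_iff (hltS d hd)).2 (uGen_mono (fun x _ hx => ⟨(hmemW x).2 (hall x hx.1), hx.2⟩) hmS)
    have hcoS : Co (St (repMask [47, 44])) d 1 (repElt S : GL D.Idx F) :=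
      (co_rep hS' hd).mono fun x hx => (hmemW x).2 (hall x (Or.inl (((rep_set hS').2.2 x).1 hx)))
    exact zero_ne_one (co_unique hPW (hmnW d hdW) h0 hcoS)
  have h2 : ∀ d ∈ T, d ∈ S := by
    intro d hd
    by_contra hdS
    have hmem : (repElt S : GL D.Idx F) ∈ uGen D F (fun x => (x ∈ S ∨ x ∈ T) ∧ x ≠ d) :=
      repElt_mem hltS fun a ha => ⟨Or.inl ha, fun e' => hdS (e' ▸ ha)⟩
    have hmT : (repElt T : GL D.Idx F) ∈ uGen D F (fun x => (x ∈ S ∨ x ∈ T) ∧ x ≠ d) := by
      rw [← hdiag, diag_mem_iff hh]; exact hmem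
    have hall : ∀ x, x ∈ S ∨ x ∈ T → x ∈ ([47, 44] : List ℕ) := by
      intro x hx
      simp only [List.mem_cons, List.not_mem_nil, or_false] at hS hT ⊢
      rcases hx with hx | hx <;> [rcases hS with rfl | rfl | rfl; rcases hT with rfl | rfl | rfl] <;>
        simp at hx <;> tauto
    have hW : ([47, 44] : List ℕ) ∈ repList := by simp [repList]
    obtain ⟨hPW, hmnW, hmemW⟩ := rep_set hW
    have hdW := hall d (Or.inr hd)
    have h0 : Co (St (repMask [47, 44])) d 0 (repElt T : GL D.Idx F) :=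
      (co_zero_iff (hltT d hd)).2 (uGen_mono (fun x _ hx => ⟨(hmemW x).2 (hall x hx.1), hx.2⟩) hmT)
    have hcoT : Co (St (repMask [47, 44])) d 1 (repElt T : GL D.Idx F) :=
      (co_rep hT' hd).mono fun x hx => (hmemW x).2 (hall x (Or.inr (((rep_set hT').2.2 x).1 hx)))
    exact zero_ne_one (co_unique hPW (hmnW d hdW) h0 hcoT)
  simp only [List.mem_cons, List.not_mem_nil, or_false] at hS hT
  rcases hS with rfl | rfl | rfl <;> rcases hT with rfl | rfl | rfl <;> first | rfl | (simp at h1 h2)

/-- the node set of the parabolic containing the centraliser of the fourth representative -/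
def JV : Set ℕ := {j | j = 0 ∨ j = 3}

/-- the fourth representative is not conjugate to a central element of U -/
theorem outer_not_central {T : List ℕ} (hT : T ∈ ([[47], [44], [47, 44]] : List (List ℕ))) {k : GL D.Idx F}
    (hk : k ∈ D.group F) : k * repElt [39, 45] * k⁻¹ ≠ (repElt T : GL D.Idx F) := by
  classical
  intro e
  haveI : Fact (Nat.Prime 2) := ⟨Nat.prime_two⟩
  haveI : Finite (GL D.Idx F) := inferInstance
  have hv : (repElt [39, 45] : GL D.Idx F) = elX chevF4 F 39 (1 : F) * elX chevF4 F 45 1 := by simp [repElt]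
  have hpar : ∀ c ∈ D.group F, Commute c (repElt [39, 45]) → c ∈ D.parabolicSubgroup F JV := by
    intro c hcG hcv
    have hmem : c ∈ chevF4.group F ⊓ Subgroup.centralizer {elX chevF4 F 39 (1 : F) * elX chevF4 F 45 1} :=
      ⟨hcG, Subgroup.mem_centralizer_singleton_iff.2 (by rw [← hv]; exact hcv.eq)⟩
    rw [CfsgLib.ChevCent.centralizer_v hc hcomm] at hmem
    suffices hle : _ ≤ D.parabolicSubgroup F JV from hle hmem
    refine sup_le ?_ ?_
    · rw [uGen_le_iff]
      intro r hr hP t
      have hsub : r = chevF4.simple 0 ∨ r = chevF4.neg (chevF4.simple 0) ∨ r = chevF4.simple 3 ∨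
          r = chevF4.neg (chevF4.simple 3) :=
        (show ∀ r ∈ ([33, 14, 24, 23] : List ℕ), r = chevF4.simple 0 ∨ r = chevF4.neg (chevF4.simple 0) ∨
          r = chevF4.simple 3 ∨ r = chevF4.neg (chevF4.simple 3) by decide +kernel) r hP
      have h0 : D.InRootSub JV r := by
        have s0 := simple_inRootSub hc (J := JV) (i := (⟨0, by decide⟩ : Fin D.rank)) (Or.inl rfl)
        have s3 := simple_inRootSub hc (J := JV) (i := (⟨3, by decide⟩ : Fin D.rank)) (Or.inr rfl)
        rcases hsub with rfl | rfl | rfl | rfl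
        · exact s0
        · exact inRootSub_neg hc (simple_lt hc (by decide)) s0
        · exact s3
        · exact inRootSub_neg hc (simple_lt hc (by decide)) s3
      have hl : X r t ∈ D.leviSubgroup F JV := by
        rw [levi_eq hc]; exact Subgroup.mem_sup_right (elX_mem_uGen hr h0 t)
      rw [← (levi_decomposition hc hcomm JV).2.1]
      exact Subgroup.mem_sup_right hl
    · rw [uGen_le_iff]
      intro r hr hP t
      refine Subgroup.mem_sup_left (pos_le_borel hc (elX_mem_uGen hr ?_ t))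
      have := List.mem_range'_1.1 (List.mem_of_mem_filter hP)
      exact this.1
  obtain ⟨P, hP⟩ := CfsgLib.ChevAut.sylow_pos hc hcomm (F := F) 2
  let kk : ↥(D.group F) := ⟨k, hk⟩
  let U0 : Sylow 2 ↥(D.group F) := kk⁻¹ • P
  have hU0 : ∀ x : ↥(D.group F), x ∈ (U0 : Subgroup ↥(D.group F)) ↔
      k * (x : GL D.Idx F) * k⁻¹ ∈ CfsgLib.ChevAut.Up D F := by
    intro x
    show x ∈ ((kk⁻¹ • P : Sylow 2 ↥(D.group F)) : Subgroup ↥(D.group F)) ↔ _
    rw [Sylow.coe_subgroup_smul, Subgroup.mem_pointwise_smul_iff_inv_smul_mem, hP, Subgroup.mem_subgroupOf]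
    simp [MulAut.smul_def, kk]
  have hU0v : ∀ x : ↥(D.group F), x ∈ (U0 : Subgroup ↥(D.group F)) → Commute (x : GL D.Idx F) (repElt [39, 45]) := by
    intro x hx
    have h1 := central_commute hT ((hU0 x).1 hx)
    rw [← e] at h1
    exact (Commute.conj_iff k).1 h1
  set R : Subgroup ↥(D.group F) := (D.unipotentRadical F JV).subgroupOf (D.group F)
  have hRp : IsPGroup 2 R := by
    have hle : R.map (D.group F).subtype ≤ uGen D F (fun s => D.nroots / 2 ≤ s) := by
      rintro _ ⟨y, hy, rfl⟩
      have hy' : (y : GL D.Idx F) ∈ D.unipotentRadical F JV := hy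
      rw [unipotentRadical_eq hc] at hy'
      exact uGen_mono (fun s _ hs => hs.1) hy'
    exact IsPGroup.of_injective ((Chev.isPGroup_pos hc (F := F) 2))
      ((Subgroup.inclusion hle).comp (R.equivMapOfInjective _ (Subgroup.subtype_injective _)).toMonoidHom)
      ((Subgroup.inclusion_injective hle).comp (MulEquiv.injective _))
  have hnorm : (U0 : Subgroup ↥(D.group F)) ≤ Subgroup.normalizer (R : Set ↥(D.group F)) := by
    intro x hx
    have hn := parabolic_normalizes_radical hc hcomm JV (hpar _ x.2 (hU0v x hx))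
    rw [Subgroup.mem_normalizer_iff] at hn ⊢
    intro y
    show (y : GL D.Idx F) ∈ D.unipotentRadical F JV ↔ ((x * y * x⁻¹ : ↥(D.group F)) : GL D.Idx F) ∈ D.unipotentRadical F JV
    rw [unipotentRadical_eq hc]
    exact hn y
  have hsup : IsPGroup 2 ↥((U0 : Subgroup ↥(D.group F)) ⊔ R) :=
    U0.isPGroup'.to_sup_of_normal_right' hRp hnorm
  have hRU : R ≤ (U0 : Subgroup ↥(D.group F)) := by
    have := U0.is_maximal' hsup le_sup_left
    rw [← this]; exact le_sup_right
  have h27 : X 27 (1 : F) ∈ D.group F := elX_mem_group hc (show 27 < D.nroots by decide) 1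
  have hR27 : (⟨_, h27⟩ : ↥(D.group F)) ∈ R := by
    show X 27 (1 : F) ∈ D.unipotentRadical F JV
    rw [unipotentRadical_eq hc]
    refine elX_mem_uGen (show 27 < D.nroots by decide) ((outRoot_iff hc (show 27 < D.nroots by decide)).2
      ⟨by decide, (⟨1, by decide⟩ : Fin D.rank), fun h => ?_, ?_⟩) 1
    · rcases h with h | h <;> simp at h
    · have h1 := rv_simple hc (⟨1, by decide⟩ : Fin D.rank)
      rw [show D.simple 1 = 27 from rfl] at h1
      rw [h1]; simp
  have hcv : Commute (X 27 (1 : F)) (repElt [39, 45]) := hU0v _ (hRU hR27)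
  have hA := conj_X (F := F) (r := 27) (s := 39) (by norm_num) (by norm_num) (by norm_num) (by norm_num) 1 1
  have hB := conj_X (F := F) (r := 27) (s := 45) (by norm_num) (by norm_num) (by norm_num) (by norm_num) 1 1
  rw [show oddTerms 27 39 = [(40, 1, 1)] by decide +kernel] at hA
  rw [show oddTerms 27 45 = [] by decide +kernel] at hB
  simp only [List.map_cons, List.map_nil, List.prod_cons, List.prod_nil, mul_one, one_pow] at hA hB
  have h3 : X 27 (1 : F) * repElt [39, 45] * (X 27 1)⁻¹ = repElt [39, 45] := by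
    rw [hcv.eq, mul_inv_cancel_right]
  rw [hv, conj_list, hA, hB, mul_left_inj] at h3
  have h4 : X 40 (1 : F) = 1 := mul_eq_left.1 h3
  exact one_ne_zero ((elX_eq_one_iff hc (show 40 < D.nroots by decide) 1).1 h4)

/-- pairwise non-conjugate -/
theorem rep_inj {S T : List ℕ} (hS : S ∈ repList) (hT : T ∈ repList) {k : GL D.Idx F} (hk : k ∈ D.group F)
    (e : k * repElt S * k⁻¹ = (repElt T : GL D.Idx F)) : S = T := by
  have hsplit : ∀ U ∈ repList, U ∈ ([[47], [44], [47, 44]] : List (List ℕ)) ∨ U = [39, 45] := by decide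
  rcases hsplit S hS with h1 | rfl <;> rcases hsplit T hT with h2 | rfl
  · exact central_fusion h1 h2 hk e
  · exact absurd (show k⁻¹ * repElt [39, 45] * k⁻¹⁻¹ = (repElt S : GL D.Idx F) by rw [← e]; group)
      (outer_not_central h1 (inv_mem hk))
  · exact absurd e (outer_not_central h2 hk)
  · rfl

end CfsgLib.F4Invol
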