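import Cfsg.Agent.Lib.F4Invol.Sound
import Cfsg.Agent.Lib.F4Invol.Separate

/-!
The involution classes of `F4` in characteristic two.
-/

set_option autoImplicit false
set_option linter.unusedSectionVars false
set_option maxRecDepth 10000

namespace CfsgLib.F4Invol

open Cfsg.Lie CfsgLib.Chev CfsgLib.ReeF4

variable {F : Type*} [Field F] [Finite F] [CharP F 2]

theorem repMat_iff (y : GL D.Idx F) :
    ((y : GL D.Idx F) : Matrix D.Idx D.Idx F) ∈ [D.x F 47 1, D.x F 44 1, D.x F 47 1 * D.x F 44 1, D.x F 39 1 * D.x F 45 1] ↔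
      ∃ S ∈ repList, y = repElt S := by
  have c := fun (r : ℕ) (hr : r < 48) => coe_elX hc F (show r < D.nroots from hr) (1 : F)
  have e1 := c 47 (by norm_num)
  have e2 := c 44 (by norm_num)
  have e3 := c 39 (by norm_num)
  have e4 := c 45 (by norm_num)
  simp only [repList, List.mem_cons, List.not_mem_nil, or_false, exists_eq_or_imp, exists_eq_left, repElt,
    List.map_cons, List.map_nil, List.prod_cons, List.prod_nil, mul_one, ← e1, ← e2, ← e3, ← e4, ← Units.val_mul,
    Units.val_inj]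

theorem order_rep {S : List ℕ} (hS : S ∈ repList) : orderOf (repElt S : GL D.Idx F) = 2 := by
  haveI : Fact (Nat.Prime 2) := ⟨Nat.prime_two⟩
  exact orderOf_eq_prime (by rw [pow_two]; exact repElt_sq hS) (repElt_ne_one hS)

theorem involution_concl {g : GL D.Idx F} (hg : g ∈ D.group F) (h2 : orderOf g = 2) : Concl g := by
  haveI : Fact (Nat.Prime 2) := ⟨Nat.prime_two⟩
  haveI : Finite (GL D.Idx F) := inferInstance
  obtain ⟨P, hP⟩ := CfsgLib.ChevAut.sylow_pos hc hcomm (F := F) 2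
  let g' : ↥(D.group F) := ⟨g, hg⟩
  have hsq : g * g = 1 := by rw [← pow_two, ← h2]; exact pow_orderOf_eq_one g
  have hne : g ≠ 1 := by rintro rfl; rw [orderOf_one] at h2; exact absurd h2 (by norm_num)
  have hR : IsPGroup 2 ↥(Subgroup.zpowers g') := by
    intro x
    obtain ⟨x, i, rfl⟩ := x
    refine ⟨1, Subtype.ext (Subtype.ext ?_)⟩
    simp only [pow_one, SubmonoidClass.coe_pow, SubgroupClass.coe_zpow, OneMemClass.coe_one]
    rw [← zpow_natCast, ← zpow_mul, mul_comm, zpow_mul, zpow_natCast, pow_two, show g * g = 1 from hsq, one_zpow]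
  obtain ⟨Q, hQ⟩ := hR.exists_le_sylow
  obtain ⟨c, hcQ⟩ := MulAction.exists_smul_eq ↥(D.group F) P Q
  have h1 : g' ∈ (Q : Subgroup ↥(D.group F)) := hQ (Subgroup.mem_zpowers _)
  rw [← hcQ, Sylow.coe_subgroup_smul, Subgroup.mem_pointwise_smul_iff_inv_smul_mem, hP,
    Subgroup.mem_subgroupOf] at h1
  have hu : (c : GL D.Idx F)⁻¹ * g * (c : GL D.Idx F)⁻¹⁻¹ ∈ uGen D F (fun r => D.nroots / 2 ≤ r) := by
    simpa [MulAut.smul_def, g'] using h1
  refine Concl.of_conj (inv_mem c.2) (classify hu ?_ ?_)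
  · rw [Ne, conj_eq_one_iff]; exact hne
  · rw [conj_mul, hsq, mul_one, mul_inv_cancel]

end CfsgLib.F4Invol
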