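import Mathlib

/-!
The format and the checker of reduction certificates for involutions of the positive unipotent group of F4 in
characteristic two. A state is a closed set `P` of positive roots together with a set `N` of roots of `P`, not
decomposable in `P`, at which the coordinate is known to be non-zero; both sets are given as bit masks.
-/

set_option autoImplicit false
set_option maxRecDepth 10000

namespace CfsgLib.F4Invol

/-- one step of a reduction -/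
inductive Act where
  | empty : Act
  | goal (L S : List ℕ) : Act
  | contra (a b c : ℕ) : Act
  | kill (r s c k : ℕ) : Act
  | split (c k₀ k₁ : ℕ) : Act
  | move (L : List ℕ) (k : ℕ) : Act

/-- a state with its step -/
abbrev Node : Type := ℕ × ℕ × Act

/-- the surviving commutator terms: for each root r the pairs (s, [(v, i, j)]) with s positive -/
def rowTbl : List (List (ℕ × List (ℕ × ℕ × ℕ))) := [
  [(24, [(1, 1, 1)]), (26, [(2, 1, 1)]), (29, [(3, 1, 1), (6, 1, 2)]), (31, [(4, 1, 1)]), (32, [(5, 1, 1)]), (36, [(7, 1, 1), (17, 1, 2)]), (38, [(8, 1, 1), (22, 1, 2)]), (39, [(9, 1, 1), (25, 1, 2)]), (40, [(11, 1, 1), (30, 1, 2)]), (42, [(15, 1, 1)]), (43, [(16, 1, 1)]), (44, [(18, 1, 1), (41, 1, 2)]), (45, [(21, 1, 1)]), (46, [(23, 1, 1)])],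
  [(25, [(2, 1, 1)]), (28, [(3, 1, 1), (5, 1, 2)]), (30, [(4, 1, 1)]), (32, [(6, 1, 1)]), (35, [(7, 1, 1), (16, 1, 2)]), (37, [(8, 1, 1), (21, 1, 2)]), (39, [(10, 1, 1), (26, 1, 2)]), (40, [(12, 1, 1), (31, 1, 2)]), (41, [(15, 1, 1)]), (43, [(17, 1, 1)]), (44, [(19, 1, 1), (42, 1, 2)]), (45, [(22, 1, 1)]), (47, [(24, 1, 1)])],
  [(27, [(3, 1, 1), (4, 1, 2)]), (30, [(5, 1, 1)]), (31, [(6, 1, 1)]), (34, [(7, 1, 1), (15, 1, 2)]), (37, [(9, 1, 1), (23, 1, 2)]), (38, [(10, 1, 1), (24, 1, 2)]), (40, [(13, 1, 1), (32, 1, 2)]), (41, [(16, 1, 1)]), (42, [(17, 1, 1)]), (44, [(20, 1, 1), (43, 1, 2)]), (46, [(25, 1, 1)]), (47, [(26, 1, 1)])],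
  [(33, [(7, 1, 1)]), (34, [(8, 1, 1)]), (35, [(9, 1, 1)]), (36, [(10, 1, 1)]), (37, [(11, 1, 1)]), (38, [(12, 1, 1)]), (39, [(13, 1, 1)]), (40, [(14, 1, 1)]), (41, [(18, 1, 1), (0, 2, 1)]), (42, [(19, 1, 1), (1, 2, 1)]), (43, [(20, 1, 1), (2, 2, 1)]), (45, [(27, 1, 1), (4, 2, 1)]), (46, [(28, 1, 1), (5, 2, 1)]), (47, [(29, 1, 1), (6, 2, 1)])],
  [(25, [(5, 1, 1)]), (26, [(6, 1, 1)]), (33, [(8, 1, 1), (15, 1, 2)]), (35, [(11, 1, 1), (23, 1, 2)]), (36, [(12, 1, 1), (24, 1, 2)]), (39, [(14, 1, 1), (32, 1, 2)]), (41, [(21, 1, 1)]), (42, [(22, 1, 1)]), (44, [(27, 1, 1), (45, 1, 2)]), (46, [(30, 1, 1)]), (47, [(31, 1, 1)])],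
  [(24, [(6, 1, 1)]), (33, [(9, 1, 1), (16, 1, 2)]), (34, [(11, 1, 1), (21, 1, 2)]), (36, [(13, 1, 1), (26, 1, 2)]), (38, [(14, 1, 1), (31, 1, 2)]), (41, [(23, 1, 1)]), (43, [(25, 1, 1)]), (44, [(28, 1, 1), (46, 1, 2)]), (45, [(30, 1, 1)]), (47, [(32, 1, 1)])],
  [(33, [(10, 1, 1), (17, 1, 2)]), (34, [(12, 1, 1), (22, 1, 2)]), (35, [(13, 1, 1), (25, 1, 2)]), (37, [(14, 1, 1), (30, 1, 2)]), (42, [(24, 1, 1)]), (43, [(26, 1, 1)]), (44, [(29, 1, 1), (47, 1, 2)]), (45, [(31, 1, 1)]), (46, [(32, 1, 1)])],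
  [(27, [(8, 1, 1)]), (28, [(9, 1, 1)]), (29, [(10, 1, 1)]), (30, [(11, 1, 1), (0, 2, 1)]), (31, [(12, 1, 1), (1, 2, 1)]), (32, [(13, 1, 1), (2, 2, 1)]), (37, [(18, 1, 1)]), (38, [(19, 1, 1)]), (39, [(20, 1, 1)]), (44, [(33, 1, 1)]), (45, [(34, 1, 1), (15, 2, 1)]), (46, [(35, 1, 1), (16, 2, 1)]), (47, [(36, 1, 1), (17, 2, 1)])],
  [(25, [(9, 1, 1), (0, 2, 1)]), (26, [(10, 1, 1), (1, 2, 1)]), (28, [(11, 1, 1)]), (29, [(12, 1, 1)]), (32, [(14, 1, 1), (4, 2, 1)]), (35, [(18, 1, 1)]), (36, [(19, 1, 1)]), (40, [(27, 1, 1)]), (43, [(33, 1, 1), (15, 2, 1)]), (44, [(34, 1, 1)]), (46, [(37, 1, 1), (21, 2, 1)]), (47, [(38, 1, 1), (22, 2, 1)])],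
  [(24, [(10, 1, 1), (2, 2, 1)]), (27, [(11, 1, 1)]), (29, [(13, 1, 1)]), (31, [(14, 1, 1), (5, 2, 1)]), (34, [(18, 1, 1)]), (36, [(20, 1, 1)]), (40, [(28, 1, 1)]), (42, [(33, 1, 1), (16, 2, 1)]), (44, [(35, 1, 1)]), (45, [(37, 1, 1), (23, 2, 1)]), (47, [(39, 1, 1), (25, 2, 1)])],
  [(27, [(12, 1, 1)]), (28, [(13, 1, 1)]), (30, [(14, 1, 1), (6, 2, 1)]), (34, [(19, 1, 1)]), (35, [(20, 1, 1)]), (40, [(29, 1, 1)]), (41, [(33, 1, 1), (17, 2, 1)]), (44, [(36, 1, 1)]), (45, [(38, 1, 1), (24, 2, 1)]), (46, [(39, 1, 1), (26, 2, 1)])],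
  [(24, [(12, 1, 1), (4, 2, 1)]), (26, [(13, 1, 1), (5, 2, 1)]), (29, [(14, 1, 1)]), (33, [(18, 1, 1)]), (38, [(27, 1, 1)]), (39, [(28, 1, 1)]), (42, [(34, 1, 1), (21, 2, 1)]), (43, [(35, 1, 1), (23, 2, 1)]), (44, [(37, 1, 1)]), (47, [(40, 1, 1), (30, 2, 1)])],
  [(25, [(13, 1, 1), (6, 2, 1)]), (28, [(14, 1, 1)]), (33, [(19, 1, 1)]), (37, [(27, 1, 1)]), (39, [(29, 1, 1)]), (41, [(34, 1, 1), (22, 2, 1)]), (43, [(36, 1, 1), (24, 2, 1)]), (44, [(38, 1, 1)]), (46, [(40, 1, 1), (31, 2, 1)])],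
  [(27, [(14, 1, 1)]), (33, [(20, 1, 1)]), (37, [(28, 1, 1)]), (38, [(29, 1, 1)]), (41, [(35, 1, 1), (25, 2, 1)]), (42, [(36, 1, 1), (26, 2, 1)]), (44, [(39, 1, 1)]), (45, [(40, 1, 1), (32, 2, 1)])],
  [(34, [(27, 1, 1)]), (35, [(28, 1, 1)]), (36, [(29, 1, 1)]), (41, [(37, 1, 1), (30, 2, 1)]), (42, [(38, 1, 1), (31, 2, 1)]), (43, [(39, 1, 1), (32, 2, 1)]), (44, [(40, 1, 1)])],
  [(25, [(16, 1, 1)]), (26, [(17, 1, 1)]), (28, [(18, 1, 1), (23, 1, 2)]), (29, [(19, 1, 1), (24, 1, 2)]), (30, [(21, 1, 1)]), (31, [(22, 1, 1)]), (39, [(33, 1, 1), (43, 1, 2)]), (40, [(34, 1, 1), (45, 1, 2)]), (46, [(41, 1, 1)]), (47, [(42, 1, 1)])],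
  [(24, [(17, 1, 1)]), (27, [(18, 1, 1), (21, 1, 2)]), (29, [(20, 1, 1), (26, 1, 2)]), (30, [(23, 1, 1)]), (32, [(25, 1, 1)]), (38, [(33, 1, 1), (42, 1, 2)]), (40, [(35, 1, 1), (46, 1, 2)]), (45, [(41, 1, 1)]), (47, [(43, 1, 1)])],
  [(27, [(19, 1, 1), (22, 1, 2)]), (28, [(20, 1, 1), (25, 1, 2)]), (31, [(24, 1, 1)]), (32, [(26, 1, 1)]), (37, [(33, 1, 1), (41, 1, 2)]), (40, [(36, 1, 1), (47, 1, 2)]), (45, [(42, 1, 1)]), (46, [(43, 1, 1)])],
  [(24, [(19, 1, 1), (15, 2, 1)]), (26, [(20, 1, 1), (16, 2, 1)]), (31, [(27, 1, 1), (21, 2, 1)]), (32, [(28, 1, 1), (23, 2, 1)]), (36, [(33, 1, 1)]), (38, [(34, 1, 1)]), (39, [(35, 1, 1)]), (40, [(37, 1, 1)]), (47, [(44, 1, 1), (41, 2, 1)])],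
  [(25, [(20, 1, 1), (17, 2, 1)]), (30, [(27, 1, 1), (22, 2, 1)]), (32, [(29, 1, 1), (24, 2, 1)]), (35, [(33, 1, 1)]), (37, [(34, 1, 1)]), (39, [(36, 1, 1)]), (40, [(38, 1, 1)]), (46, [(44, 1, 1), (42, 2, 1)])],
  [(30, [(28, 1, 1), (25, 2, 1)]), (31, [(29, 1, 1), (26, 2, 1)]), (34, [(33, 1, 1)]), (37, [(35, 1, 1)]), (38, [(36, 1, 1)]), (40, [(39, 1, 1)]), (45, [(44, 1, 1), (43, 2, 1)])],
  [(24, [(22, 1, 1)]), (25, [(23, 1, 1)]), (29, [(27, 1, 1), (31, 1, 2)]), (32, [(30, 1, 1)]), (36, [(34, 1, 1), (42, 1, 2)]), (39, [(37, 1, 1), (46, 1, 2)]), (43, [(41, 1, 1)]), (47, [(45, 1, 1)])],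
  [(26, [(24, 1, 1)]), (28, [(27, 1, 1), (30, 1, 2)]), (32, [(31, 1, 1)]), (35, [(34, 1, 1), (41, 1, 2)]), (39, [(38, 1, 1), (47, 1, 2)]), (43, [(42, 1, 1)]), (46, [(45, 1, 1)])],
  [(26, [(25, 1, 1)]), (29, [(28, 1, 1), (32, 1, 2)]), (31, [(30, 1, 1)]), (36, [(35, 1, 1), (43, 1, 2)]), (38, [(37, 1, 1), (45, 1, 2)]), (42, [(41, 1, 1)]), (47, [(46, 1, 1)])],
  [(25, [(26, 1, 1)]), (28, [(29, 1, 1), (32, 1, 2)]), (30, [(31, 1, 1)]), (35, [(36, 1, 1), (43, 1, 2)]), (37, [(38, 1, 1), (45, 1, 2)]), (41, [(42, 1, 1)]), (46, [(47, 1, 1)])],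
  [(24, [(26, 1, 1)]), (27, [(28, 1, 1), (30, 1, 2)]), (31, [(32, 1, 1)]), (34, [(35, 1, 1), (41, 1, 2)]), (38, [(39, 1, 1), (47, 1, 2)]), (42, [(43, 1, 1)]), (45, [(46, 1, 1)])],
  [(27, [(29, 1, 1), (31, 1, 2)]), (30, [(32, 1, 1)]), (34, [(36, 1, 1), (42, 1, 2)]), (37, [(39, 1, 1), (46, 1, 2)]), (41, [(43, 1, 1)]), (45, [(47, 1, 1)])],
  [(25, [(28, 1, 1), (30, 2, 1)]), (26, [(29, 1, 1), (31, 2, 1)]), (33, [(34, 1, 1)]), (35, [(37, 1, 1)]), (36, [(38, 1, 1)]), (39, [(40, 1, 1)]), (43, [(44, 1, 1), (45, 2, 1)])],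
  [(24, [(29, 1, 1), (32, 2, 1)]), (33, [(35, 1, 1)]), (34, [(37, 1, 1)]), (36, [(39, 1, 1)]), (38, [(40, 1, 1)]), (42, [(44, 1, 1), (46, 2, 1)])],
  [(33, [(36, 1, 1)]), (34, [(38, 1, 1)]), (35, [(39, 1, 1)]), (37, [(40, 1, 1)]), (41, [(44, 1, 1), (47, 2, 1)])],
  [(24, [(31, 1, 1)]), (26, [(32, 1, 1)]), (33, [(37, 1, 1), (41, 1, 2)]), (36, [(40, 1, 1), (47, 1, 2)]), (42, [(45, 1, 1)]), (43, [(46, 1, 1)])],
  [(25, [(32, 1, 1)]), (33, [(38, 1, 1), (42, 1, 2)]), (35, [(40, 1, 1), (46, 1, 2)]), (41, [(45, 1, 1)]), (43, [(47, 1, 1)])],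
  [(33, [(39, 1, 1), (43, 1, 2)]), (34, [(40, 1, 1), (45, 1, 2)]), (41, [(46, 1, 1)]), (42, [(47, 1, 1)])],
  [(27, [(34, 1, 1)]), (28, [(35, 1, 1)]), (29, [(36, 1, 1)]), (30, [(37, 1, 1), (41, 2, 1)]), (31, [(38, 1, 1), (42, 2, 1)]), (32, [(39, 1, 1), (43, 2, 1)]), (40, [(44, 1, 1)])],
  [(25, [(35, 1, 1), (41, 2, 1)]), (26, [(36, 1, 1), (42, 2, 1)]), (28, [(37, 1, 1)]), (29, [(38, 1, 1)]), (32, [(40, 1, 1), (45, 2, 1)]), (39, [(44, 1, 1)])],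
  [(24, [(36, 1, 1), (43, 2, 1)]), (27, [(37, 1, 1)]), (29, [(39, 1, 1)]), (31, [(40, 1, 1), (46, 2, 1)]), (38, [(44, 1, 1)])],
  [(27, [(38, 1, 1)]), (28, [(39, 1, 1)]), (30, [(40, 1, 1), (47, 2, 1)]), (37, [(44, 1, 1)])],
  [(24, [(38, 1, 1), (45, 2, 1)]), (26, [(39, 1, 1), (46, 2, 1)]), (29, [(40, 1, 1)]), (36, [(44, 1, 1)])],
  [(25, [(39, 1, 1), (47, 2, 1)]), (28, [(40, 1, 1)]), (35, [(44, 1, 1)])],
  [(27, [(40, 1, 1)]), (34, [(44, 1, 1)])],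
  [(33, [(44, 1, 1)])],
  [(24, [(42, 1, 1)]), (26, [(43, 1, 1)]), (29, [(44, 1, 1), (47, 1, 2)]), (31, [(45, 1, 1)]), (32, [(46, 1, 1)])],
  [(25, [(43, 1, 1)]), (28, [(44, 1, 1), (46, 1, 2)]), (30, [(45, 1, 1)]), (32, [(47, 1, 1)])],
  [(27, [(44, 1, 1), (45, 1, 2)]), (30, [(46, 1, 1)]), (31, [(47, 1, 1)])],
  [],
  [(25, [(46, 1, 1)]), (26, [(47, 1, 1)])],
  [(24, [(47, 1, 1)])],
  []]

/-- the fundamental reflections on root indices -/
def sigTbl : List (List ℕ) := [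
  [0, 1, 2, 7, 15, 16, 17, 3, 8, 9, 10, 18, 19, 20, 33, 4, 5, 6, 11, 12, 13, 21, 22, 23, 24, 25, 26, 34, 35, 36, 41, 42, 43, 14, 27, 28, 29, 37, 38, 39, 44, 30, 31, 32, 40, 45, 46, 47],
  [0, 1, 4, 3, 2, 5, 6, 8, 7, 11, 12, 9, 10, 14, 13, 15, 21, 22, 18, 19, 27, 16, 17, 23, 24, 30, 31, 20, 28, 29, 25, 26, 32, 34, 33, 37, 38, 35, 36, 40, 39, 41, 42, 45, 44, 43, 46, 47],
  [0, 2, 1, 3, 5, 4, 6, 7, 9, 8, 10, 11, 13, 12, 14, 16, 15, 17, 18, 20, 19, 23, 25, 21, 26, 22, 24, 28, 27, 29, 30, 32, 31, 33, 35, 34, 36, 37, 39, 38, 40, 41, 43, 42, 44, 46, 45, 47],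
  [1, 0, 2, 3, 4, 6, 5, 7, 8, 10, 9, 12, 11, 13, 14, 15, 17, 16, 19, 18, 20, 22, 21, 24, 23, 26, 25, 27, 29, 28, 31, 30, 32, 33, 34, 36, 35, 38, 37, 39, 40, 42, 41, 43, 44, 45, 47, 46]]

/-- membership -/
def inM (P x : ℕ) : Bool := P.testBit x

/-- deletion -/
def del (P c : ℕ) : ℕ := if inM P c then P ^^^ 2 ^ c else P

/-- insertion -/
def ins (P c : ℕ) : ℕ := P ||| 2 ^ c

/-- the row of a root -/
def row (r : ℕ) : List (ℕ × List (ℕ × ℕ × ℕ)) := rowTbl.getD r []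

/-- the positive roots -/
def posList : List ℕ := List.range' 24 24

/-- all roots of `P` are positive -/
def onlyPos (P : ℕ) : Bool := decide (P % 2 ^ 24 = 0) && decide (P < 2 ^ 48)

/-- closed under the surviving commutator terms -/
def isPC (P : ℕ) : Bool :=
  onlyPos P && posList.all fun r => !inM P r ||
    (row r).all fun e => !inM P e.1 || e.2.all fun t => inM P t.1

/-- no surviving term of two roots of `P` is `c` -/
def isMin (P c : ℕ) : Bool :=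
  inM P c && posList.all fun r => !inM P r ||
    (row r).all fun e => !inM P e.1 || e.2.all fun t => !(t.1 == c)

/-- `r` can act on the group of `P` with values in the group of `Q` -/
def mapsInto (P Q r : ℕ) : Bool :=
  decide (r < 48) && !inM P (47 - r) && posList.all (fun x => !inM P x || inM Q x) &&
    (row r).all fun e => !inM P e.1 || e.2.all fun t => inM Q t.1

/-- the sources of `d` in `P` under `r` -/
def sources (P r d : ℕ) : List (ℕ × ℕ × ℕ) :=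
  ((row r).filter fun e => inM P e.1).flatMap fun e =>
    (e.2.filter fun t => t.1 == d).map fun t => (e.1, t.2)

/-- a single source of good exponents -/
def oneSource (l : List (ℕ × ℕ × ℕ)) (s : ℕ) : Bool :=
  match l with
  | [(x, i, j)] => (x == s) && (i == 1 || i == 2) && (j == 1 || j == 2)
  | _ => false

/-- the word of reflections -/
def wl (L : List ℕ) (r : ℕ) : ℕ := L.foldr (fun i x => (sigTbl.getD i []).getD x 48) r

/-- the images of the word on `P` -/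
def image (L : List ℕ) (P : ℕ) : ℕ :=
  posList.foldl (fun Q x => if inM P x then ins Q (wl L x) else Q) 0

/-- the representatives -/
def repList : List (List ℕ) := [[47], [44], [47, 44], [39, 45]]

/-- the lookup of a state -/
def stOf (C : List Node) (k : ℕ) : ℕ × ℕ := let n := C.getD k (0, 0, .empty); (n.1, n.2.1)

/-- the conditions of one step -/
def stepOk (C : List Node) (idx : ℕ) (P N : ℕ) : Act → Bool
  | .empty => decide (P = 0)
  | .goal L S =>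
      L.all (fun i => decide (i < 4)) && S.all (inM N) && decide (P = S.foldl ins 0) &&
        repList.contains (S.map (wl L)) && decide (S.Nodup)
  | .contra a b c =>
      inM N a && inM N b && !(a == b) && !(a == c) && decide (a < 48) && decide (b < 48) && decide (c < 48) &&
        isMin (del P a) c && mapsInto (del P a) (del P a) a && oneSource (sources (del P a) a c) b
  | .kill r s c k =>
      let P₂ := (stOf C k).1
      let N₂ := (stOf C k).2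
      let P₁ := ins P₂ c
      decide (idx < k) && decide (k < C.length) && !inM P₂ c && decide (c < 48) && inM P c && inM N s &&
        isPC P₁ && isMin P₁ c && mapsInto P P₁ r && oneSource (sources P r c) s &&
        posList.all fun d => !inM N₂ d || (isMin P₁ d && !(d == c) &&
          (((sources P r d).isEmpty && inM N d) ||
            (!inM P d && inM N c &&
              match sources P r d with
              | [(x, i, j)] => inM N x && (i == 1 || i == 2) && (j == 1 || j == 2)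
              | _ => false)))
  | .split c k₀ k₁ =>
      decide (idx < k₀) && decide (k₀ < C.length) && decide (idx < k₁) && decide (k₁ < C.length) &&
        decide (c < 48) && isMin P c && decide ((stOf C k₀).1 = del P c) && decide ((stOf C k₁).1 = P) &&
        posList.all (fun d => !inM (stOf C k₀).2 d || (inM N d && !(d == c))) &&
        posList.all (fun d => !inM (stOf C k₁).2 d || inM N d || (d == c))
  | .move L k =>
      decide (idx < k) && decide (k < C.length) && L.all (fun i => decide (i < 4)) &&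
        posList.all (fun x => !inM P x || inM (stOf C k).1 (wl L x)) &&
        posList.all (fun d => !inM (stOf C k).2 d || posList.any (fun a => inM N a && (wl L a == d))) &&
        decide ((stOf C k).1 = image L P)

/-- the conditions at one node -/
def nodeOk (C : List Node) (idx : ℕ) (n : Node) : Bool :=
  isPC n.1 && posList.all (fun d => !inM n.2.1 d || isMin n.1 d) && decide (n.2.1 % 2 ^ 24 = 0) &&
    decide (n.2.1 < 2 ^ 48) && stepOk C idx n.1 n.2.1 n.2.2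

/-- all nodes from a given index on -/
def checkFrom (C : List Node) : List Node → ℕ → Bool
  | [], _ => true
  | n :: l, idx => nodeOk C idx n && checkFrom C l (idx + 1)

/-- the certificate check -/
def check (C : List Node) : Bool :=
  decide (stOf C 0 = (2 ^ 48 - 2 ^ 24, 0)) && decide (0 < C.length) && checkFrom C C 0

end CfsgLib.F4Invol
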