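import Cfsg.Agent.Lib.F4Invol.Coord

/-!
Soundness of the Boolean predicates of the checker, and the change of a coordinate under conjugation.
-/

set_option autoImplicit false
set_option linter.unusedSectionVars false
set_option maxRecDepth 10000

namespace CfsgLib.F4Invol

open Cfsg.Lie CfsgLib.Chev CfsgLib.ReeF4

variable {F : Type*} [Field F] [CharP F 2]

/-- the set of a mask -/
abbrev St (P : ℕ) : ℕ → Prop := fun x => inM P x = true

theorem onlyPos_spec {P x : ℕ} (h1 : P % 2 ^ 24 = 0) (h2 : P < 2 ^ 48) (hx : inM P x = true) :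
    24 ≤ x ∧ x < 48 := by
  constructor
  · by_contra h
    have e := Nat.testBit_mod_two_pow P 24 x
    rw [h1, Nat.zero_testBit, show P.testBit x = true from hx, Bool.and_true] at e
    simp at e; omega
  · by_contra h
    exact absurd (Nat.testBit_lt_two_pow (lt_of_lt_of_le h2 (Nat.pow_le_pow_right two_pos (not_lt.1 h)))) (by
      rw [show P.testBit x = true from hx]; simp)

theorem pc_of (P : ℕ) (h : isPC P = true) : PC (St P) := by
  simp only [isPC, onlyPos, Bool.and_eq_true, decide_eq_true_eq, List.all_eq_true, Bool.or_eq_true,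
    Bool.not_eq_true'] at h
  obtain ⟨⟨h1, h2⟩, h3⟩ := h
  refine ⟨fun x hx => onlyPos_spec h1 h2 hx, fun a b ha hb hba e he => ?_⟩
  obtain ⟨a1, a2⟩ := onlyPos_spec h1 h2 ha
  obtain ⟨b1, b2⟩ := onlyPos_spec h1 h2 hb
  rcases h3 a (posList_mem.2 ⟨a1, a2⟩) with g | g
  · rw [ha] at g; exact absurd g (by simp)
  rcases g (b, oddTerms a b) ((row_mem a2).2 ⟨⟨b1, b2⟩, hba, by show b ≠ 47 - a; omega, List.ne_nil_of_mem he, rfl⟩)
    with g | g
  · rw [show inM P b = true from hb] at g; exact absurd g (by simp)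
  · exact g e he

theorem mn_of {P : ℕ} (hP : PC (St P)) {c : ℕ} (h : isMin P c = true) : Mn (St P) c := by
  simp only [isMin, Bool.and_eq_true, List.all_eq_true, Bool.or_eq_true, Bool.not_eq_true'] at h
  obtain ⟨h0, h3⟩ := h
  refine ⟨h0, fun a b ha hb hba e he => ?_⟩
  obtain ⟨a1, a2⟩ := hP.pos a ha
  obtain ⟨b1, b2⟩ := hP.pos b hb
  rcases h3 a (posList_mem.2 ⟨a1, a2⟩) with g | g
  · rw [ha] at g; exact absurd g (by simp)
  rcases g (b, oddTerms a b) ((row_mem a2).2 ⟨⟨b1, b2⟩, hba, by show b ≠ 47 - a; omega, List.ne_nil_of_mem he, rfl⟩)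
    with g | g
  · rw [show inM P b = true from hb] at g; exact absurd g (by simp)
  · intro hec
    have := g e he
    simp [hec] at this

theorem mapsInto_spec {P Q r : ℕ} (hP : PC (St P)) (h : mapsInto P Q r = true) :
    r < 48 ∧ (∀ x, St P x → x ≠ 47 - r) ∧ (∀ x, St P x → St Q x) ∧
      ∀ x, St P x → x ≠ r → ∀ e ∈ oddTerms r x, St Q e.1 := by
  simp only [mapsInto, Bool.and_eq_true, decide_eq_true_eq, List.all_eq_true, Bool.or_eq_true,
    Bool.not_eq_true'] at h
  obtain ⟨⟨⟨hr, hn⟩, hsub⟩, h3⟩ := h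
  have hne : ∀ x, St P x → x ≠ 47 - r := fun x hx e => by
    rw [← e, show inM P x = true from hx] at hn; exact absurd hn (by simp)
  refine ⟨hr, hne, fun x hx => ?_, fun x hx hxr e he => ?_⟩
  · rcases hsub x (posList_mem.2 (hP.pos x hx)) with g | g
    · rw [show inM P x = true from hx] at g; exact absurd g (by simp)
    · exact g
  · rcases h3 (x, oddTerms r x) ((row_mem hr).2 ⟨hP.pos x hx, hxr, hne x hx, List.ne_nil_of_mem he, rfl⟩) with g | g
    · rw [show inM P x = true from hx] at g; exact absurd g (by simp)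
    · exact g e he

theorem sources_entry {P r d : ℕ} (hP : PC (St P)) (hr : r < 48) (hne : ∀ x, St P x → x ≠ 47 - r) {x : ℕ}
    (hx : St P x) (hxr : x ≠ r) :
    List.Sublist (((oddTerms r x).filter fun t => t.1 == d).map fun t => (x, t.2)) (sources P r d) := by
  by_cases he : oddTerms r x = []
  · rw [he]; exact List.nil_sublist _
  have hmem : (x, oddTerms r x) ∈ (row r).filter fun e => inM P e.1 :=
    List.mem_filter.2 ⟨(row_mem hr).2 ⟨hP.pos x hx, hxr, hne x hx, he, rfl⟩, hx⟩
  rw [sources, List.flatMap_def]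
  exact List.sublist_flatten_of_mem (List.mem_map.2 ⟨_, hmem, rfl⟩)

theorem sources_one {P r d s i j : ℕ} (hr : r < 48) (h : sources P r d = [(s, i, j)]) :
    St P s ∧ s ≠ r ∧ (oddTerms r s).filter (fun t => t.1 == d) ≠ [] := by
  have : (s, i, j) ∈ sources P r d := by rw [h]; simp
  simp only [sources, List.mem_flatMap, List.mem_filter, List.mem_map] at this
  obtain ⟨e, ⟨he, hin⟩, t, ⟨ht, ht'⟩, heq⟩ := this
  obtain ⟨-, h2, -, -, h5⟩ := (row_mem hr).1 he
  simp only [Prod.mk.injEq] at heq
  rw [← heq.1]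
  refine ⟨hin, h2, List.ne_nil_of_mem (a := t) (List.mem_filter.2 ⟨h5 ▸ ht, ht'⟩)⟩

theorem co_terms {P : ℕ → Prop} (hP : PC P) {d : ℕ} (hd : Mn P d) (t u : F) :
    ∀ l : List (ℕ × ℕ × ℕ), (∀ e ∈ l, P e.1) →
      Co P d ((l.filter fun e => e.1 == d).map fun e => t ^ e.2.1 * u ^ e.2.2).sum
        (l.map fun e => X e.1 (t ^ e.2.1 * u ^ e.2.2)).prod := by
  intro l
  induction l with
  | nil => intro _; simp only [List.filter_nil, List.map_nil, List.sum_nil, List.prod_nil]
           exact (co_zero_iff (hd.lt hP)).2 (one_mem _)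
  | cons e l ih =>
    intro hl
    have he := hl e (by simp)
    have h1 := ih fun e' h => hl e' (List.mem_cons_of_mem _ h)
    rw [List.map_cons, List.prod_cons]
    by_cases hed : e.1 = d
    · rw [List.filter_cons_of_pos (by simpa using hed), List.map_cons, List.sum_cons]
      refine Co.mul hP hd ?_ h1
      show X d _ * X e.1 _ ∈ _
      rw [hed, X_add (hd.lt hP), CharTwo.add_self_eq_zero, X_zero (hd.lt hP)]
      exact one_mem _
    · rw [List.filter_cons_of_neg (by simpa using hed)]
      have := Co.mul hP hd ((co_zero_iff (hd.lt hP)).2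
        (elX_mem_uGen (show e.1 < D.nroots from (hP.pos _ he).2) (P := fun x => P x ∧ x ≠ d) ⟨he, hed⟩ (t ^ e.2.1 * u ^ e.2.2))) h1
      rwa [zero_add] at this

theorem co_X {P : ℕ → Prop} (hP : PC P) {d : ℕ} (hd : Mn P d) {x : ℕ} (hx : P x) (u : F) :
    Co P d (if x = d then u else 0) (X x u) := by
  by_cases h : x = d
  · subst h
    rw [if_pos rfl, Co, X_add (hd.lt hP), CharTwo.add_self_eq_zero, X_zero (hd.lt hP)]
    exact one_mem _
  · rw [if_neg h, co_zero_iff (hd.lt hP)]
    exact elX_mem_uGen (show x < D.nroots from (hP.pos _ hx).2) ⟨hx, h⟩ u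

section
variable {P P₁ r : ℕ} (hP : PC (St P)) (hP₁ : PC (St P₁)) (hmap : mapsInto P P₁ r = true)
include hP hP₁ hmap

theorem conj_mem {g : GL D.Idx F} (t : F) (hg : g ∈ uGen D F (St P)) :
    X r t * g * (X r t)⁻¹ ∈ uGen D F (St P₁) := by
  obtain ⟨hr, hne, hsub, hterm⟩ := mapsInto_spec hP hmap
  induction hg using Subgroup.closure_induction with
  | mem y hy =>
      obtain ⟨s, u, hs, hPs, rfl⟩ := hy
      by_cases hsr : s = r
      · subst hsr
        rw [X_inv hr, X_add hr, X_add hr, show t + u + t = u by linear_combination CharTwo.add_self_eq_zero t]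
        exact elX_mem_uGen hs (hsub s hPs) u
      · rw [conj_X hr hs hsr (hne s hPs)]
        refine mul_mem (elX_mem_uGen hs (hsub s hPs) u) (Subgroup.list_prod_mem _ fun g hg => ?_)
        obtain ⟨e, he, rfl⟩ := List.mem_map.1 hg
        exact elX_mem_uGen (term_lt hr hs he).1 (hterm s hPs hsr e he) _
  | one => simp
  | mul x y _ _ hx hy => rw [← conj_mul]; exact mul_mem hx hy
  | inv x _ hx => rw [← conj_inv]; exact inv_mem hx

/-- the coordinate at `d` of the conjugate of a generator -/
theorem co_conj_X {d : ℕ} (hd : Mn (St P₁) d) {x : ℕ} (hx : St P x) (t u : F) :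
    Co (St P₁) d ((if x = d then u else 0) +
        (if x = r then 0 else (((oddTerms r x).filter fun e => e.1 == d).map fun e => t ^ e.2.1 * u ^ e.2.2).sum))
      (X r t * X x u * (X r t)⁻¹) := by
  obtain ⟨hr, hne, hsub, hterm⟩ := mapsInto_spec hP hmap
  by_cases hxr : x = r
  · subst hxr
    rw [if_pos rfl, add_zero, X_inv hr, X_add hr, X_add hr,
      show t + u + t = u by linear_combination CharTwo.add_self_eq_zero t]
    exact co_X hP₁ hd (hsub x hx) u
  · rw [if_neg hxr, conj_X hr (hP.pos x hx).2 hxr (hne x hx)]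
    exact Co.mul hP₁ hd (co_X hP₁ hd (hsub x hx) u) (co_terms hP₁ hd t u _ (hterm x hx hxr))

/-- without sources the coordinate is kept -/
theorem shift_none {d : ℕ} (hd : Mn (St P₁) d) (hs : sources P r d = []) (t : F) {g : GL D.Idx F}
    (hg : g ∈ uGen D F (St P)) :
    ∀ B, Co (St P₁) d B g → Co (St P₁) d B (X r t * g * (X r t)⁻¹) := by
  obtain ⟨hr, hne, hsub, -⟩ := mapsInto_spec hP hmap
  induction hg using Subgroup.closure_induction with
  | mem y hy =>
      obtain ⟨x, u, -, hx, rfl⟩ := hy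
      intro B hB
      rw [co_unique hP₁ hd hB (co_X hP₁ hd (hsub x hx) u)]
      have h := co_conj_X hP hP₁ hmap hd hx t u
      by_cases hxr : x = r
      · rwa [if_pos hxr, add_zero] at h
      · rw [if_neg hxr] at h
        have hsl := sources_entry (d := d) hP hr hne hx hxr
        rw [hs, List.sublist_nil, List.map_eq_nil_iff] at hsl
        simpa [hsl] using h
  | one =>
      intro B hB
      simpa using hB
  | mul a b ha hb iha ihb =>
      intro B hB
      obtain ⟨A1, h1⟩ := co_exists hP₁ hd (uGen_mono (fun x _ h => hsub x h) ha)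
      obtain ⟨A2, h2⟩ := co_exists hP₁ hd (uGen_mono (fun x _ h => hsub x h) hb)
      rw [co_unique hP₁ hd hB (h1.mul hP₁ hd h2), ← conj_mul]
      exact (iha A1 h1).mul hP₁ hd (ihb A2 h2)
  | inv a ha iha =>
      intro B hB
      obtain ⟨A1, h1⟩ := co_exists hP₁ hd (uGen_mono (fun x _ h => hsub x h) ha)
      obtain ⟨A2, h2⟩ := co_exists hP₁ hd (conj_mem hP hP₁ hmap t (inv_mem ha))
      have e1 := co_unique hP₁ hd ((iha A1 h1).mul hP₁ hd h2) ((co_zero_iff (hd.lt hP₁)).2
        (by rw [conj_mul, mul_inv_cancel, mul_one, mul_inv_cancel]; exact one_mem _))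
      have e2 := co_unique hP₁ hd (h1.mul hP₁ hd hB) ((co_zero_iff (hd.lt hP₁)).2
        (by rw [mul_inv_cancel]; exact one_mem _))
      rwa [show B = A2 from by linear_combination e2 - e1]

/-- a single source shifts the coordinate -/
theorem shift_one {d s i j : ℕ} (hd : Mn (St P₁) d) (hsrc : sources P r d = [(s, i, j)]) (hj : j = 1 ∨ j = 2)
    (hs : Mn (St P) s) (t : F) {g : GL D.Idx F} (hg : g ∈ uGen D F (St P)) :
    ∀ A B, Co (St P) s A g → Co (St P₁) d B g →
      Co (St P₁) d (B + t ^ i * A ^ j) (X r t * g * (X r t)⁻¹) := by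
  obtain ⟨hr, hne, hsub, -⟩ := mapsInto_spec hP hmap
  obtain ⟨hsP, hsr, hsne⟩ := sources_one hr hsrc
  have hadd : ∀ A A' : F, (A + A') ^ j = A ^ j + A' ^ j := by
    intro A A'
    rcases hj with rfl | rfl
    · ring
    · rw [CharTwo.add_sq]
  have hj0 : j ≠ 0 := by omega
  induction hg using Subgroup.closure_induction with
  | mem y hy =>
      obtain ⟨x, u, -, hx, rfl⟩ := hy
      intro A B hA hB
      rw [co_unique hP₁ hd hB (co_X hP₁ hd (hsub x hx) u), co_unique hP hs hA (co_X hP hs hx u)]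
      have h := co_conj_X hP hP₁ hmap hd hx t u
      by_cases hxr : x = r
      · rw [if_pos hxr, add_zero] at h
        rwa [if_neg (show ¬ x = s from fun e => hsr (e ▸ hxr)), zero_pow hj0, mul_zero, add_zero]
      · rw [if_neg hxr] at h
        have hsl := sources_entry (d := d) hP hr hne hx hxr
        rw [hsrc] at hsl
        by_cases hxs : x = s
        · rw [if_pos hxs]
          rcases List.sublist_singleton.1 hsl with g | g
          · rw [List.map_eq_nil_iff, hxs] at g
            exact absurd g hsne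
          · rcases hl : (oddTerms r x).filter (fun e => e.1 == d) with _ | ⟨e, _ | ⟨e', l⟩⟩ <;>
              rw [hl] at g h <;> simp at g
            rw [List.map_cons, List.map_nil, List.sum_singleton, g.2] at h
            exact h
        · rw [if_neg hxs, zero_pow hj0, mul_zero, add_zero]
          rcases List.sublist_singleton.1 hsl with g | g
          · rw [List.map_eq_nil_iff] at g
            simpa [g] using h
          · exfalso
            rcases hl : (oddTerms r x).filter (fun e => e.1 == d) with _ | ⟨e, _ | ⟨e', l⟩⟩ <;>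
              rw [hl] at g <;> simp at g
            exact hxs g.1
  | one =>
      intro A B hA hB
      rw [co_eq_zero hP hs hA (one_mem _), zero_pow hj0, mul_zero, add_zero]
      simpa using hB
  | mul a b ha hb iha ihb =>
      intro A B hA hB
      obtain ⟨A1, h1⟩ := co_exists hP₁ hd (uGen_mono (fun x _ h => hsub x h) ha)
      obtain ⟨A2, h2⟩ := co_exists hP₁ hd (uGen_mono (fun x _ h => hsub x h) hb)
      obtain ⟨C1, k1⟩ := co_exists hP hs ha
      obtain ⟨C2, k2⟩ := co_exists hP hs hb
      rw [co_unique hP₁ hd hB (h1.mul hP₁ hd h2), co_unique hP hs hA (k1.mul hP hs k2), ← conj_mul, hadd,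
        show A1 + A2 + t ^ i * (C1 ^ j + C2 ^ j) = (A1 + t ^ i * C1 ^ j) + (A2 + t ^ i * C2 ^ j) by ring]
      exact (iha C1 A1 k1 h1).mul hP₁ hd (ihb C2 A2 k2 h2)
  | inv a ha iha =>
      intro A B hA hB
      obtain ⟨A1, h1⟩ := co_exists hP₁ hd (uGen_mono (fun x _ h => hsub x h) ha)
      obtain ⟨C1, k1⟩ := co_exists hP hs ha
      obtain ⟨A2, h2⟩ := co_exists hP₁ hd (conj_mem hP hP₁ hmap t (inv_mem ha))
      have e1 := co_unique hP₁ hd ((iha C1 A1 k1 h1).mul hP₁ hd h2) ((co_zero_iff (hd.lt hP₁)).2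
        (by rw [conj_mul, mul_inv_cancel, mul_one, mul_inv_cancel]; exact one_mem _))
      have e2 := co_unique hP₁ hd (h1.mul hP₁ hd hB) ((co_zero_iff (hd.lt hP₁)).2
        (by rw [mul_inv_cancel]; exact one_mem _))
      have e3 := co_unique hP hs (k1.mul hP hs hA) ((co_zero_iff (hs.lt hP)).2
        (by rw [mul_inv_cancel]; exact one_mem _))
      rw [CharTwo.add_eq_zero.1 e3] at e1
      rwa [show B + t ^ i * A ^ j = A2 from by
        linear_combination e2 - e1 + (t ^ i * A ^ j) * (CharTwo.two_eq_zero (R := F))]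

end

end CfsgLib.F4Invol
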