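import Cfsg.Agent.Lib.F4Invol.Shift
import Cfsg.Agent.Lib.F4Invol.Scale
import Cfsg.Agent.Lib.F4Invol.CertCheck
import Mathlib.FieldTheory.Perfect

/-!
Soundness of the checker: the certificate reduces every involution of U to one of the four representatives.
-/

set_option autoImplicit false
set_option linter.unusedSectionVars false
set_option maxRecDepth 10000

namespace CfsgLib.F4Invol

open Cfsg.Lie CfsgLib.Chev CfsgLib.ReeF4

variable {F : Type*} [Field F] [Finite F] [CharP F 2]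

/-- what a state says of an element -/
def Holds (P N : ℕ) (g : GL D.Idx F) : Prop :=
  g ∈ uGen D F (St P) ∧ (∀ d, St N d → ∃ A : F, A ≠ 0 ∧ Co (St P) d A g) ∧ g ≠ 1 ∧ g * g = 1

/-- the state reduces to the representatives -/
def Good (C : List Node) (k : ℕ) : Prop :=
  ∀ g : GL D.Idx F, Holds (stOf C k).1 (stOf C k).2 g → Concl g

theorem exists_sqrt (y : F) : ∃ t : F, t ^ 2 = y := by
  haveI : Fintype F := Fintype.ofFinite F
  obtain ⟨t, ht⟩ := FiniteField.isSquare_of_char_two (ringChar.eq F 2) y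
  exact ⟨t, by rw [pow_two]; exact ht.symm⟩

theorem St_ins {P c x : ℕ} : St (ins P c) x ↔ St P x ∨ x = c := by
  simp only [St, inM, ins, Nat.testBit_or, Nat.testBit_two_pow, Bool.or_eq_true, decide_eq_true_eq]
  tauto

theorem St_del {P c x : ℕ} : St (del P c) x ↔ St P x ∧ x ≠ c := by
  simp only [St, inM, del]
  by_cases h : P.testBit c = true
  · simp only [h, if_true, Nat.testBit_xor, Nat.testBit_two_pow]
    by_cases e : c = x
    · subst e; simp [h]
    · simp [e, Ne.symm e]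
  · simp only [h, if_false]
    constructor
    · intro hx; exact ⟨hx, fun e => h (e ▸ hx)⟩
    · exact fun hx => hx.1

theorem St_foldl {S : List ℕ} {x : ℕ} : St (S.foldl ins 0) x ↔ x ∈ S := by
  suffices h : ∀ P, St (S.foldl ins P) x ↔ St P x ∨ x ∈ S by
    simpa [St, inM] using h 0
  induction S with
  | nil => simp
  | cons a S ih => intro P; rw [List.foldl_cons, ih, St_ins, List.mem_cons]; tauto

theorem single_form {a : ℕ} (ha : a < 48) {g : GL D.Idx F} (hg : g ∈ uGen D F (fun x => x = a)) :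
    ∃ t, g = X a t := by
  rw [← rootSubgroup_eq hc (show a < D.nroots from ha)] at hg
  exact (mem_rootSubgroup hc (show a < D.nroots from ha)).1 hg

theorem bot_form {Q : ℕ → Prop} (hQ : ∀ x, ¬ Q x) {g : GL D.Idx F} (hg : g ∈ uGen D F Q) : g = 1 := by
  have : uGen D F Q = ⊥ := by
    rw [eq_bot_iff, uGen_le_iff]; exact fun r _ h => absurd h (hQ r)
  rwa [this, Subgroup.mem_bot] at hg

theorem case_empty {P N : ℕ} (h : P = 0) {g : GL D.Idx F} (hg : Holds P N g) : Concl g :=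
  absurd (bot_form (fun x hx => by subst h; simp [St, inM] at hx) hg.1) hg.2.2.1

theorem step_conds {C : List Node} {k : ℕ} (hk : k < C.length) (hall : ∀ i, i < C.length →
    nodeOk C i (C.getD i (0, 0, .empty)) = true) :
    PC (St (stOf C k).1) ∧ ∀ d, St (stOf C k).2 d → (24 ≤ d ∧ d < 48) ∧ Mn (St (stOf C k).1) d := by
  have h := hall k hk
  simp only [nodeOk, Bool.and_eq_true, decide_eq_true_eq, List.all_eq_true, Bool.or_eq_true,
    Bool.not_eq_true'] at h
  obtain ⟨⟨⟨⟨h1, h2⟩, h3⟩, h4⟩, -⟩ := h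
  refine ⟨pc_of _ h1, fun d hd => ?_⟩
  have hb := onlyPos_spec h3 h4 hd
  refine ⟨hb, mn_of (pc_of _ h1) ?_⟩
  rcases h2 d (posList_mem.2 hb) with g | g
  · cases hd.symm.trans g
  · exact g

theorem pmap_val {n : ℕ} : ∀ (L : List ℕ) (hL : ∀ x ∈ L, x < n),
    (L.pmap (fun i h => (⟨i, h⟩ : Fin n)) hL).map Fin.val = L
  | [], _ => rfl
  | a :: L, hL => by
      rw [List.pmap, List.map_cons, pmap_val L]

theorem case_goal {P N : ℕ} (hP : PC (St P)) (hN : ∀ d, St N d → (24 ≤ d ∧ d < 48) ∧ Mn (St P) d)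
    {C : List Node} {idx : ℕ} {L S : List ℕ} (h : stepOk C idx P N (.goal L S) = true)
    {g : GL D.Idx F} (hg : Holds P N g) : Concl g := by
  simp only [stepOk, Bool.and_eq_true, decide_eq_true_eq, List.all_eq_true, List.contains_iff_mem] at h
  obtain ⟨⟨⟨⟨hL, hSN⟩, hPS⟩, hrep⟩, hnd⟩ := h
  let L' : List (Fin chevF4.rank) := L.pmap (fun i h => ⟨i, h⟩) hL
  have eL : L'.map Fin.val = L := pmap_val L hL
  set n := nProd D F L'
  have hn : n ∈ D.group F := monomial_le_group hc (nProd_mem_monomial hc L')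
  refine Concl.of_conj hn ?_
  have hmove : ∀ a < 48, ∃ c : F, c ≠ 0 ∧ ∀ t, n * X a t * n⁻¹ = X (wl L a) (c * t) := by
    intro a ha
    obtain ⟨c, -, hcx⟩ := nProd_conj_elX hc (F := F) L' (show a < D.nroots from ha)
    exact ⟨c, c.ne_zero, fun t => by rw [← eL, wl_eq ha]; exact hcx t⟩
  have hmem : ∀ x, St P x ↔ x ∈ S := fun x => by rw [hPS]; exact St_foldl
  match S, hSN, hrep, hnd, hmem with
  | [], _, hrep, _, _ => simp [repList] at hrep
  | [a], hSN, hrep, _, hmem =>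
    obtain ⟨⟨-, ha⟩, -⟩ := hN a (hSN a (by simp))
    obtain ⟨A, hA, hco⟩ := hg.2.1 a (hSN a (by simp))
    have h1 := bot_form (fun x hx => hx.2 (by simpa using (hmem x).1 hx.1)) hco
    have e : g = X a A := (mul_eq_one_iff_inv_eq.1 h1).symm.trans (X_inv ha A)
    obtain ⟨c, hc0, hcx⟩ := hmove a ha
    rw [e, hcx]
    exact (concl_rep hrep (mul_ne_zero hc0 hA) one_ne_zero).1 _ rfl
  | [a, b], hSN, hrep, hnd, hmem =>
    have hab : a ≠ b := by simpa using hnd
    obtain ⟨⟨-, ha⟩, hma⟩ := hN a (hSN a (by simp))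
    obtain ⟨⟨-, hb⟩, hmb⟩ := hN b (hSN b (by simp))
    obtain ⟨A, hA, hco⟩ := hg.2.1 a (hSN a (by simp))
    obtain ⟨B, hB, hcob⟩ := hg.2.1 b (hSN b (by simp))
    obtain ⟨B', hB'⟩ := single_form hb (uGen_mono (Q := fun x => x = b) (fun x _ hx => by
      have := (hmem x).1 hx.1
      simp at this
      exact this.resolve_left hx.2) hco)
    have e : g = X a A * X b B' := by rw [← hB', ← mul_assoc, X_add ha, CharTwo.add_self_eq_zero, X_zero ha, one_mul]
    have hB0 : B' ≠ 0 := by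
      rintro rfl
      refine hB (co_eq_zero hP hmb hcob ?_)
      rw [e, X_zero hb, mul_one]
      exact elX_mem_uGen (show a < D.nroots from ha) ⟨(hmem a).2 (by simp), hab⟩ A
    obtain ⟨c, hc0, hcx⟩ := hmove a ha
    obtain ⟨c', hc0', hcx'⟩ := hmove b hb
    rw [e, conj_list, hcx, hcx']
    exact (concl_rep hrep (mul_ne_zero hc0 hA) (mul_ne_zero hc0' hB0)).2 _ _ rfl
  | a :: b :: c :: l, _, hrep, _, _ => simp [repList] at hrep

theorem case_contra {P N : ℕ} (hP : PC (St P)) (hN : ∀ d, St N d → (24 ≤ d ∧ d < 48) ∧ Mn (St P) d)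
    {C : List Node} {idx a b c : ℕ} (h : stepOk C idx P N (.contra a b c) = true)
    {g : GL D.Idx F} (hg : Holds P N g) : Concl g := by
  simp only [stepOk, Bool.and_eq_true, decide_eq_true_eq, Bool.not_eq_true', beq_eq_false_iff_ne] at h
  obtain ⟨⟨⟨⟨⟨⟨⟨⟨⟨hNa, hNb⟩, hab⟩, hac⟩, ha⟩, hb⟩, hc'⟩, hmin⟩, hmap⟩, hone⟩ := h
  exfalso
  obtain ⟨-, hma⟩ := hN a hNa
  obtain ⟨-, hmb⟩ := hN b hNb
  obtain ⟨A, hA, hcoA⟩ := hg.2.1 a hNa
  obtain ⟨B, hB, hcoB⟩ := hg.2.1 b hNb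
  have hP' : PC (St (del P a)) := by
    have := hP.erase hma
    exact ⟨fun r hr => this.pos r (St_del.1 hr), fun x y hx hy hyx e he =>
      St_del.2 (this.closed x y (St_del.1 hx) (St_del.1 hy) hyx e he)⟩
  have hmc := mn_of hP' hmin
  set h' := X a A * g
  have hh' : h' ∈ uGen D F (St (del P a)) := uGen_mono (fun x _ hx => St_del.2 hx) hcoA
  have hmb' : Mn (St (del P a)) b := ⟨St_del.2 ⟨hmb.mem, Ne.symm hab⟩, fun x y hx hy hyx e he =>
    hmb.indec x y (St_del.1 hx).1 (St_del.1 hy).1 hyx e he⟩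
  obtain ⟨B', hB'⟩ := co_exists hP' hmb' hh'
  have hBB : B' = B := by
    have h1 : Co (St P) b B' h' := hB'.mono fun x hx => (St_del.1 hx).1
    have h0 : Co (St P) b 0 (X a A) := (co_zero_iff hb).2
      (elX_mem_uGen (show a < D.nroots from ha) ⟨hma.mem, hab⟩ A)
    have h2 : Co (St P) b (0 + B) h' := h0.mul hP hmb hcoB
    rw [zero_add] at h2
    exact co_unique hP hmb h1 h2
  obtain ⟨Cc, hCc⟩ := co_exists hP' hmc hh'
  rcases hs : sources (del P a) a c with _ | ⟨⟨x, i, j⟩, _ | ⟨q, l⟩⟩ <;> rw [hs] at hone <;>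
    simp only [oneSource, Bool.false_eq_true, Bool.and_eq_true, Bool.or_eq_true, beq_iff_eq] at hone
  obtain ⟨⟨rfl, hi⟩, hj⟩ := hone
  have h3 := shift_one hP' hP' hmap hmc hs hj hmb' A hh' B' Cc hB' hCc
  have hg2 : g = X a A * h' := by
    rw [← mul_assoc, X_add ha, CharTwo.add_self_eq_zero, X_zero ha, one_mul]
  have e : X a A * h' * (X a A)⁻¹ * h' = 1 := by
    rw [← hg2, X_inv ha, mul_assoc, ← hg2]; exact hg.2.2.2
  have h4 := h3.mul hP' hmc hCc
  rw [e] at h4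
  have h5 := co_eq_zero hP' hmc h4 (one_mem _)
  rw [hBB, show Cc + A ^ i * B ^ j + Cc = A ^ i * B ^ j by linear_combination Cc * CharTwo.two_eq_zero (R := F)] at h5
  exact mul_ne_zero (pow_ne_zero _ hA) (pow_ne_zero _ hB) h5

theorem case_kill {P N : ℕ} (hP : PC (St P)) (hN : ∀ d, St N d → (24 ≤ d ∧ d < 48) ∧ Mn (St P) d)
    {C : List Node} {idx r s c k : ℕ} (h : stepOk C idx P N (.kill r s c k) = true)
    (hk : PC (St (stOf C k).1) ∧ ∀ d, St (stOf C k).2 d → (24 ≤ d ∧ d < 48) ∧ Mn (St (stOf C k).1) d)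
    (ih : Good (F := F) C k) {g : GL D.Idx F} (hg : Holds P N g) : Concl g := by
  simp only [stepOk, Bool.and_eq_true, decide_eq_true_eq, Bool.not_eq_true', List.all_eq_true,
    Bool.or_eq_true] at h
  obtain ⟨⟨⟨⟨⟨⟨⟨⟨⟨⟨-, -⟩, hc2⟩, hc'⟩, hPc⟩, hNs⟩, hpc⟩, hmin⟩, hmap⟩, hone⟩, hN2⟩ := h
  set P₂ := (stOf C k).1
  set N₂ := (stOf C k).2
  have hP1 := pc_of _ hpc
  have hmc1 := mn_of hP1 hmin
  obtain ⟨hr, hne, hsub, -⟩ := mapsInto_spec hP hmap
  obtain ⟨-, hms⟩ := hN s hNs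
  obtain ⟨A, hA, hcoA⟩ := hg.2.1 s hNs
  have hmc : Mn (St P) c :=
    ⟨hPc, fun x y hx hy hyx e he => hmc1.indec x y (hsub x hx) (hsub y hy) hyx e he⟩
  obtain ⟨B, hcoB⟩ := co_exists hP hmc hg.1
  rcases hs : sources P r c with _ | ⟨⟨x, i, j⟩, _ | ⟨q, l⟩⟩ <;> rw [hs] at hone <;>
    simp only [oneSource, Bool.false_eq_true, Bool.and_eq_true, Bool.or_eq_true, beq_iff_eq] at hone
  obtain ⟨⟨rfl, hi⟩, hj⟩ := hone
  have hAj : A ^ j ≠ 0 := pow_ne_zero _ hA
  obtain ⟨t, ht⟩ : ∃ t : F, t ^ i = B * (A ^ j)⁻¹ := by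
    rcases hi with rfl | rfl
    · exact ⟨_, pow_one _⟩
    · exact exists_sqrt _
  have hkill := shift_one hP hP1 hmap hmc1 hs hj hms t hg.1 A B hcoA (hcoB.mono hsub)
  rw [ht, inv_mul_cancel_right₀ hAj, CharTwo.add_self_eq_zero] at hkill
  set g' := X r t * g * (X r t)⁻¹
  have hg'2 : g' ∈ uGen D F (St P₂) := by
    refine uGen_mono (fun z _ hz => ?_) ((co_zero_iff hc').1 hkill)
    exact (St_ins.1 hz.1).resolve_right hz.2
  have hr' : X r t ∈ D.group F := elX_mem_group hc (show r < D.nroots from hr) t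
  refine Concl.of_conj hr' (ih g' ⟨hg'2, fun d hd => ?_, ?_, ?_⟩)
  · obtain ⟨hdb, hmd2⟩ := hk.2 d hd
    rcases hN2 d (posList_mem.2 hdb) with hh | ⟨⟨hmd, hdc⟩, hh⟩
    · rw [show inM N₂ d = true from hd] at hh; exact absurd hh (by simp)
    have hmd1 := mn_of hP1 hmd
    obtain ⟨A₂, hA₂⟩ := co_exists hk.1 hmd2 hg'2
    have hA₂' : Co (St (ins P₂ c)) d A₂ g' := hA₂.mono fun z hz => St_ins.2 (Or.inl hz)
    refine ⟨A₂, ?_, hA₂⟩
    rcases hh with ⟨hemp, hNd⟩ | ⟨⟨hPd, hNc⟩, hh⟩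
    · obtain ⟨Ad, hAd, hcd⟩ := hg.2.1 d hNd
      have := shift_none hP hP1 hmap hmd1 (List.isEmpty_iff.1 hemp) t hg.1 Ad (hcd.mono hsub)
      rwa [co_unique hP1 hmd1 hA₂' this]
    · rcases hs' : sources P r d with _ | ⟨⟨y, i', j'⟩, _ | ⟨q, l⟩⟩ <;> rw [hs'] at hh <;>
        simp only [Bool.false_eq_true, Bool.and_eq_true, Bool.or_eq_true, beq_iff_eq] at hh
      obtain ⟨⟨hNy, -⟩, hj'⟩ := hh
      obtain ⟨-, hmy⟩ := hN y hNy
      obtain ⟨A', hA', hcoA'⟩ := hg.2.1 y hNy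
      obtain ⟨B₁, hB₁, hcoB₁⟩ := hg.2.1 c hNc
      have hd0 : Co (St (ins P₂ c)) d 0 g := (co_zero_iff hdb.2).2 (uGen_mono (fun z _ hz =>
        ⟨hsub z hz, fun e => by rw [← e, show inM P z = true from hz] at hPd; exact absurd hPd (by simp)⟩) hg.1)
      have := shift_one hP hP1 hmap hmd1 hs' hj' hmy t hg.1 A' 0 hcoA' hd0
      rw [co_unique hP1 hmd1 hA₂' this, zero_add]
      refine mul_ne_zero (pow_ne_zero _ fun e => ?_) (pow_ne_zero _ hA')
      subst e
      have e0 : (0 : F) = B * (A ^ j)⁻¹ := by rw [← ht, zero_pow]; rcases hi with rfl | rfl <;> norm_num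
      refine hB₁ ?_
      rw [co_unique hP hmc hcoB₁ hcoB]
      exact (mul_eq_zero.1 e0.symm).resolve_right (inv_ne_zero hAj)
  · exact fun e => hg.2.2.1 (conj_eq_one_iff.1 e)
  · rw [conj_mul, hg.2.2.2, mul_one, mul_inv_cancel]

theorem case_split {P N : ℕ} (hP : PC (St P)) (hN : ∀ d, St N d → (24 ≤ d ∧ d < 48) ∧ Mn (St P) d)
    {C : List Node} {idx c k₀ k₁ : ℕ} (h : stepOk C idx P N (.split c k₀ k₁) = true)
    (hk₀ : PC (St (stOf C k₀).1) ∧ ∀ d, St (stOf C k₀).2 d → (24 ≤ d ∧ d < 48) ∧ Mn (St (stOf C k₀).1) d)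
    (hk₁ : PC (St (stOf C k₁).1) ∧ ∀ d, St (stOf C k₁).2 d → (24 ≤ d ∧ d < 48) ∧ Mn (St (stOf C k₁).1) d)
    (ih₀ : Good (F := F) C k₀) (ih₁ : Good (F := F) C k₁) {g : GL D.Idx F} (hg : Holds P N g) : Concl g := by
  simp only [stepOk, Bool.and_eq_true, decide_eq_true_eq, Bool.not_eq_true', List.all_eq_true,
    Bool.or_eq_true, beq_iff_eq, beq_eq_false_iff_ne] at h
  obtain ⟨⟨⟨⟨⟨⟨-, hc'⟩, hmin⟩, e0⟩, e1⟩, hN0⟩, hN1⟩ := h
  have hmc := mn_of hP hmin
  obtain ⟨B, hcoB⟩ := co_exists hP hmc hg.1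
  by_cases hB : B = 0
  · subst hB
    have hg0 : g ∈ uGen D F (St (stOf C k₀).1) :=
      uGen_mono (fun x _ hx => by rw [e0]; exact St_del.2 hx) ((co_zero_iff hc').1 hcoB)
    refine ih₀ g ⟨hg0, fun d hd => ?_, hg.2.2⟩
    obtain ⟨hdb, hmd0⟩ := hk₀.2 d hd
    rcases hN0 d (posList_mem.2 hdb) with hh | ⟨hNd, -⟩
    · rw [show inM _ d = true from hd] at hh; exact absurd hh (by simp)
    obtain ⟨Ad, hAd, hcd⟩ := hg.2.1 d hNd
    obtain ⟨A₂, hA₂⟩ := co_exists hk₀.1 hmd0 hg0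
    refine ⟨A₂, ?_, hA₂⟩
    rwa [co_unique hP (hN d hNd).2 (hA₂.mono fun x hx => by rw [e0] at hx; exact (St_del.1 hx).1) hcd]
  · refine ih₁ g ⟨by rw [e1]; exact hg.1, fun d hd => ?_, hg.2.2⟩
    obtain ⟨hdb, -⟩ := hk₁.2 d hd
    rw [e1]
    rcases hN1 d (posList_mem.2 hdb) with (hh | hh) | hh
    · rw [show inM _ d = true from hd] at hh; exact absurd hh (by simp)
    · exact hg.2.1 d hh
    · subst hh; exact ⟨B, hB, hcoB⟩

theorem case_move {P N : ℕ} (hP : PC (St P)) (hN : ∀ d, St N d → (24 ≤ d ∧ d < 48) ∧ Mn (St P) d)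
    {C : List Node} {idx k : ℕ} {L : List ℕ} (h : stepOk C idx P N (.move L k) = true)
    (hk : PC (St (stOf C k).1) ∧ ∀ d, St (stOf C k).2 d → (24 ≤ d ∧ d < 48) ∧ Mn (St (stOf C k).1) d)
    (ih : Good (F := F) C k) {g : GL D.Idx F} (hg : Holds P N g) : Concl g := by
  simp only [stepOk, Bool.and_eq_true, decide_eq_true_eq, Bool.not_eq_true', List.all_eq_true,
    Bool.or_eq_true, List.any_eq_true, beq_iff_eq] at h
  obtain ⟨⟨⟨⟨⟨-, -⟩, hL⟩, hmapP⟩, hmapN⟩, -⟩ := h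
  let L' : List (Fin chevF4.rank) := L.pmap (fun i h => ⟨i, h⟩) hL
  have eL : L'.map Fin.val = L := pmap_val L hL
  set n := nProd D F L'
  have hn : n ∈ D.group F := monomial_le_group hc (nProd_mem_monomial hc L')
  have himg : ∀ x, St P x → St (stOf C k).1 (wl L x) := by
    intro x hx
    rcases hmapP x (posList_mem.2 (hP.pos x hx)) with hh | hh
    · rw [show inM P x = true from hx] at hh; exact absurd hh (by simp)
    · exact hh
  have hgn : n * g * n⁻¹ ∈ uGen D F (St (stOf C k).1) :=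
    ChevField.nProd_conj_uGen hc L' (fun r hr hx => by rw [← wl_eq hr, eL]; exact himg r hx) hg.1
  refine Concl.of_conj hn (ih _ ⟨hgn, fun d hd => ?_, fun e => hg.2.2.1 (conj_eq_one_iff.1 e), ?_⟩)
  · obtain ⟨hdb, -⟩ := hk.2 d hd
    rcases hmapN d (posList_mem.2 hdb) with hh | ⟨a, hal, hNa, rfl⟩
    · rw [show inM _ d = true from hd] at hh; exact absurd hh (by simp)
    obtain ⟨ha1, ha⟩ := posList_mem.1 hal
    obtain ⟨A, hA, hcoA⟩ := hg.2.1 a hNa
    obtain ⟨c, -, hcx⟩ := nProd_conj_elX hc (F := F) L' (show a < D.nroots from ha)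
    refine ⟨(c : F) * A, mul_ne_zero c.ne_zero hA, ?_⟩
    show X (wl L a) ((c : F) * A) * (n * g * n⁻¹) ∈ _
    have e : X (wl L a) ((c : F) * A) * (n * g * n⁻¹) = n * (X a A * g) * n⁻¹ := by
      rw [conj_list, hcx, ← eL, wl_eq ha]
    rw [e]
    refine ChevField.nProd_conj_uGen hc L' (fun r hr hx => ?_) hcoA
    rw [← wl_eq hr, eL]
    refine ⟨himg r hx.1, fun e => hx.2 ?_⟩
    rw [← eL, wl_eq hr, wl_eq ha] at e
    have := congrArg (sigs D tb L'.reverse) e
    rwa [sigs_reverse hc L' hr, sigs_reverse hc L' (show a < D.nroots from ha)] at this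
  · rw [conj_mul, hg.2.2.2, mul_one, mul_inv_cancel]

theorem checkFrom_get (C : List Node) : ∀ (l : List Node) (idx : ℕ), checkFrom C l idx = true →
    ∀ i, i < l.length → nodeOk C (idx + i) (l.getD i (0, 0, .empty)) = true := by
  intro l
  induction l with
  | nil => intro idx _ i hi; simp at hi
  | cons n l ih =>
    intro idx h i hi
    rw [checkFrom, Bool.and_eq_true] at h
    cases i with
    | zero => simpa using h.1
    | succ i =>
      have := ih (idx + 1) h.2 i (by simpa using hi)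
      rwa [List.getD_cons_succ, show idx + (i + 1) = idx + 1 + i by omega]

theorem good_all {C : List Node} (hall : ∀ i, i < C.length → nodeOk C i (C.getD i (0, 0, .empty)) = true) :
    ∀ n k, k < C.length → C.length - k ≤ n → Good (F := F) C k := by
  intro n
  induction n with
  | zero => intro k hk hn; omega
  | succ n ih =>
    intro k hk hn g hg
    obtain ⟨hP, hN⟩ := step_conds hk hall
    have hok := hall k hk
    simp only [nodeOk, Bool.and_eq_true] at hok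
    have hst : stepOk C k (stOf C k).1 (stOf C k).2 (C.getD k (0, 0, .empty)).2.2 = true := hok.2
    rcases ha : (C.getD k (0, 0, .empty)).2.2 with _ | ⟨L, S⟩ | ⟨a, b, c⟩ | ⟨r, s, c, k'⟩ | ⟨c, k₀, k₁⟩ | ⟨L, k'⟩ <;>
      rw [ha] at hst
    · exact case_empty (by simpa [stepOk] using hst) hg
    · exact case_goal hP hN hst hg
    · exact case_contra hP hN hst hg
    · have hb : k < k' ∧ k' < C.length := by
        simp only [stepOk, Bool.and_eq_true, decide_eq_true_eq] at hst; tauto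
      exact case_kill hP hN hst (step_conds hb.2 hall) (ih k' hb.2 (by omega)) hg
    · have hb : (k < k₀ ∧ k₀ < C.length) ∧ (k < k₁ ∧ k₁ < C.length) := by
        simp only [stepOk, Bool.and_eq_true, decide_eq_true_eq] at hst; tauto
      exact case_split hP hN hst (step_conds hb.1.2 hall) (step_conds hb.2.2 hall)
        (ih k₀ hb.1.2 (by omega)) (ih k₁ hb.2.2 (by omega)) hg
    · have hb : k < k' ∧ k' < C.length := by
        simp only [stepOk, Bool.and_eq_true, decide_eq_true_eq] at hst; tauto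
      exact case_move hP hN hst (step_conds hb.2 hall) (ih k' hb.2 (by omega)) hg

/-- every involution of U is conjugate to a representative -/
theorem classify {g : GL D.Idx F} (hg : g ∈ uGen D F (fun r => D.nroots / 2 ≤ r)) (h1 : g ≠ 1)
    (h2 : g * g = 1) : Concl g := by
  have h := cert_ok
  simp only [check, Bool.and_eq_true, decide_eq_true_eq] at h
  obtain ⟨⟨h0, hlen⟩, hf⟩ := h
  have hgood := good_all (F := F) (C := cert) (fun i hi => by
    have := checkFrom_get cert cert 0 hf i hi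
    rwa [zero_add] at this) _ 0 hlen le_rfl
  refine hgood g ⟨uGen_mono (fun r hr hp => ?_) hg, fun d hd => ?_, h1, h2⟩
  · rw [h0]
    show (2 ^ 48 - 2 ^ 24 : ℕ).testBit r = true
    exact (show ∀ r : Fin 48, 24 ≤ r.val → (2 ^ 48 - 2 ^ 24 : ℕ).testBit r.val = true by decide +kernel) ⟨r, hr⟩ hp
  · rw [h0] at hd
    simp [St, inM] at hd

end CfsgLib.F4Invol
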