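import Cfsg.Agent.Lib.F4Invol.Format
import Cfsg.Agent.Lib.Twisted.F4Sigma
import Cfsg.Agent.Lib.Chev.UWord

/-!
The tables of the checker are those of the Chevalley datum; the commutator formula in characteristic two.
-/

set_option autoImplicit false
set_option linter.unusedSectionVars false
set_option maxRecDepth 10000

namespace CfsgLib.F4Invol

open Cfsg.Lie CfsgLib.Chev CfsgLib.ReeF4

abbrev D : ChevalleyDatum := chevF4

/-- the commutator terms with odd coefficient -/
def oddTerms (r s : ℕ) : List (ℕ × ℕ × ℕ) :=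
  ((chevF4.commTerms r s).filter fun c => decide (c.2.1 % 2 ≠ 0)).map fun c => (c.1, c.2.2.1, c.2.2.2)

theorem row_eq : ∀ r : Fin 48, row r.val = posList.filterMap fun s =>
    if s = r.val ∨ s = 47 - r.val ∨ oddTerms r.val s = [] then none else some (s, oddTerms r.val s) := by
  decide +kernel

theorem neg_eq47 : ∀ r : Fin 48, chevF4.neg r.val = 47 - r.val := by decide +kernel

theorem sigTbl_eq : ∀ i : Fin 4, ∀ r : Fin 48,
    (sigTbl.getD i.val []).getD r.val 48 = chevF4.reflectRoot i.val r.val := by decide +kernel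

theorem posList_mem {x : ℕ} : x ∈ posList ↔ 24 ≤ x ∧ x < 48 := by
  simp [posList, List.mem_range'_1]

theorem row_mem {r : ℕ} (hr : r < 48) {e : ℕ × List (ℕ × ℕ × ℕ)} :
    e ∈ row r ↔ (24 ≤ e.1 ∧ e.1 < 48) ∧ e.1 ≠ r ∧ e.1 ≠ 47 - r ∧ oddTerms r e.1 ≠ [] ∧ e.2 = oddTerms r e.1 := by
  obtain ⟨s, ts⟩ := e
  rw [row_eq ⟨r, hr⟩, List.mem_filterMap]
  constructor
  · rintro ⟨a, ha, h⟩
    split at h
    · exact absurd h (by simp)
    · rename_i hn
      push Not at hn
      obtain ⟨rfl, rfl⟩ := Prod.mk.injEq _ _ _ _ ▸ (Option.some.inj h)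
      exact ⟨posList_mem.1 ha, hn.1, hn.2.1, hn.2.2, rfl⟩
  · rintro ⟨h1, h2, h3, h4, h5⟩
    simp only at h1 h2 h3 h4 h5
    exact ⟨s, posList_mem.2 h1, by rw [if_neg (by push Not; exact ⟨h2, h3, h4⟩), h5]⟩

theorem wl_eq {L : List (Fin chevF4.rank)} {r : ℕ} (hr : r < 48) :
    wl (L.map Fin.val) r = sigs chevF4 tb L r := by
  induction L with
  | nil => rfl
  | cons i L ih =>
    show (sigTbl.getD i.val []).getD (wl (L.map Fin.val) r) 48 = sig chevF4 tb i (sigs chevF4 tb L r)
    have hlt : sigs chevF4 tb L r < 48 := sigs_lt hc L hr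
    rw [ih, sigTbl_eq i ⟨_, hlt⟩, reflectRoot_eq hc i hlt]

variable {F : Type*} [Field F] [CharP F 2]

/-- a root element -/
noncomputable abbrev X (r : ℕ) (t : F) : GL D.Idx F := elX D F r t

theorem X_inv {r : ℕ} (hr : r < 48) (t : F) : (X r t)⁻¹ = X r t := by
  rw [elX_inv hc F (show r < D.nroots from hr), CharTwo.neg_eq]

theorem X_add {r : ℕ} (hr : r < 48) (t u : F) : X r t * X r u = X r (t + u) :=
  elX_add hc F (show r < D.nroots from hr) t u

theorem X_zero {r : ℕ} (hr : r < 48) : X r (0 : F) = 1 := elX_zero hc F (show r < D.nroots from hr)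

theorem term_lt {r s : ℕ} (hr : r < 48) (hs : s < 48) {e : ℕ × ℕ × ℕ} (he : e ∈ oddTerms r s) :
    e.1 < 48 ∧ CombRoot D tb r s e.1 := by
  simp only [oddTerms, List.mem_map, List.mem_filter] at he
  obtain ⟨c, ⟨hc', -⟩, rfl⟩ := he
  obtain ⟨h1, h2, h3, h4⟩ := commTerms_weight hc (show r < D.nroots from hr) (show s < D.nroots from hs) c hc'
  exact ⟨h1, h1, c.2.2.1, c.2.2.2, h2, h3, h4⟩

theorem cast_parity (c : ℤ) : (c : F) = if c % 2 ≠ 0 then 1 else 0 := by
  have h2 : ((2 : ℤ) : F) = 0 := by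
    have := CharP.cast_eq_zero F 2
    exact_mod_cast this
  conv_lhs => rw [← Int.mul_ediv_add_emod c 2]
  rw [Int.cast_add, Int.cast_mul, h2, zero_mul, zero_add]
  rcases Int.emod_two_eq_zero_or_one c with h | h <;> simp [h]

/-- the commutator formula, with only the surviving terms -/
theorem conj_X {r s : ℕ} (hr : r < 48) (hs : s < 48) (hsr : s ≠ r) (hn : s ≠ 47 - r) (t u : F) :
    X r t * X s u * (X r t)⁻¹ =
      X s u * ((oddTerms r s).map fun e => X e.1 (t ^ e.2.1 * u ^ e.2.2)).prod := by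
  have hn' : s ≠ chevF4.neg r := by rwa [neg_eq47 ⟨r, hr⟩]
  rw [elX_conj_elX hc hcomm (show r < D.nroots from hr) (show s < D.nroots from hs) hsr hn' t u]
  congr 1
  rw [wordGL, ChevalleyDatum.commWord, List.map_map]
  have hlt : ∀ c ∈ chevF4.commTerms r s, c.1 < D.nroots := fun c hc' =>
    (commTerms_weight hc (show r < D.nroots from hr) (show s < D.nroots from hs) c hc').1
  unfold oddTerms
  revert hlt
  generalize chevF4.commTerms r s = l
  intro hlt
  induction l with
  | nil => rfl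
  | cons c l ih =>
    have ih' := ih fun c' h => hlt c' (List.mem_cons_of_mem _ h)
    by_cases hodd : c.2.1 % 2 ≠ 0
    · rw [List.filter_cons_of_pos (by simpa using hodd)]
      simp only [List.map_cons, List.prod_cons] at ih' ⊢
      rw [ih']
      congr 1
      simp only [Function.comp_apply, X, cast_parity c.2.1, if_pos hodd, one_mul, neg_neg]
    · rw [List.filter_cons_of_neg (by simpa using hodd)]
      simp only [List.map_cons, List.prod_cons] at ih' ⊢
      rw [ih']
      simp only [Function.comp_apply, cast_parity c.2.1, if_neg hodd, zero_mul]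
      rw [elX_zero hc F (hlt c (by simp)), one_mul]

end CfsgLib.F4Invol
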